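import Mathlib

/-!
# A bound from a large centralized abelian normal subgroup

A group `H` of automorphisms of a finite abelian group, transitive on the non-zero elements and
fixed-point-free, with an abelian normal subgroup `O` of index twelve whose centralizer is
non-commutative: `O` has order at most ten.
-/

set_option autoImplicit false

namespace Cfsg.Agent.Block.Zas.IndexTwo

set_option maxHeartbeats 1000000 in
/-- The subring generated by an abelian normal subgroup is a field over which the group is semilinear. -/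
theorem card_eq_two_or_ten {H A : Type*} [Group H] [Finite H] [AddCommGroup A] [Finite A]
    (ρ : H →* AddMonoid.End A) (hodd : Odd (Nat.card A)) (hcard : Nat.card H + 1 = Nat.card A)
    (hfree : ∀ (h : H) (x : A), x ≠ 0 → ρ h x = x → h = 1)
    (htrans : ∀ x y : A, x ≠ 0 → y ≠ 0 → ∃ h : H, ρ h x = y)
    (O : Subgroup H) [O.Normal] (hOc : ∀ x ∈ O, ∀ y ∈ O, x * y = y * x)
    {a b : H} (haO : ∀ x ∈ O, a * x = x * a) (hbO : ∀ x ∈ O, b * x = x * b) (hab : a * b ≠ b * a)
    (h12 : Nat.card H = 12 * Nat.card O) : Nat.card O = 2 ∨ Nat.card O = 10 := by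
  classical
  haveI : Fact (1 < Nat.card A) := ⟨by have : 0 < Nat.card H := Nat.card_pos; omega⟩
  haveI : Nontrivial A := Finite.one_lt_card_iff_nontrivial.mp Fact.out
  obtain ⟨x0, hx0⟩ := exists_ne (0 : A)
  have hinjρ : Function.Injective ρ := by
    intro p q hpq
    have : ρ (q⁻¹ * p) x0 = x0 := by
      rw [map_mul, hpq, ← map_mul, inv_mul_cancel, map_one]; rfl
    exact (inv_mul_eq_one.mp (hfree _ _ hx0 this)).symm
  let S : Set (AddMonoid.End A) := ρ '' (O : Set H)
  let R : Subring (AddMonoid.End A) := Subring.closure S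
  have hScomm : ∀ p ∈ S, ∀ q ∈ S, p * q = q * p := by
    rintro _ ⟨p, hp, rfl⟩ _ ⟨q, hq, rfl⟩
    rw [← map_mul, ← map_mul, hOc p hp q hq]
  haveI hRc : IsMulCommutative R := Subring.isMulCommutative_closure hScomm
  -- elements commuting with the generators commute with the ring
  have hcent : ∀ f : AddMonoid.End A, (∀ p ∈ S, f * p = p * f) → ∀ r ∈ R, f * r = r * f := by
    intro f hf r hr
    have hle : R ≤ Subring.centralizer {f} := Subring.closure_le.mpr fun p hp =>
      Subring.mem_centralizer_iff.mpr fun g hg => by rw [Set.mem_singleton_iff.mp hg]; exact hf p hp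
    exact Subring.mem_centralizer_iff.mp (hle hr) f rfl
  -- the group normalizes the ring
  have hnorm : ∀ (h : H), ∀ r ∈ R, ρ h * r * ρ h⁻¹ ∈ R := by
    intro h r hr
    induction hr using Subring.closure_induction with
    | mem p hp =>
      obtain ⟨o, ho, rfl⟩ := hp
      rw [← map_mul, ← map_mul]
      exact Subring.subset_closure ⟨_, Subgroup.Normal.conj_mem inferInstance o ho h, rfl⟩
    | zero => simp
    | one => rw [mul_one, ← map_mul, mul_inv_cancel, map_one]; exact R.one_mem
    | add p q _ _ hp hq => rw [mul_add, add_mul]; exact R.add_mem hp hq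
    | neg p _ hp => rw [mul_neg, neg_mul]; exact R.neg_mem hp
    | mul p q _ _ hp hq =>
      have e : ρ h * (p * q) * ρ h⁻¹ = (ρ h * p * ρ h⁻¹) * (ρ h * q * ρ h⁻¹) := by
        have e1 : ρ h⁻¹ * ρ h = 1 := by rw [← map_mul, inv_mul_cancel, map_one]
        calc ρ h * (p * q) * ρ h⁻¹ = ρ h * p * 1 * q * ρ h⁻¹ := by simp [mul_assoc]
          _ = (ρ h * p * ρ h⁻¹) * (ρ h * q * ρ h⁻¹) := by rw [← e1]; simp [mul_assoc]
      rw [e]; exact R.mul_mem hp hq
  -- cyclic submodules
  let M : A → Finset A := fun x =>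
    haveI := Fintype.ofFinite A
    Finset.univ.filter fun y => ∃ r ∈ R, r x = y
  have memM : ∀ {x y : A}, y ∈ M x ↔ ∃ r ∈ R, r x = y := by intro x y; simp [M]
  have self_mem : ∀ x : A, x ∈ M x := fun x => memM.mpr ⟨1, R.one_mem, rfl⟩
  have sub : ∀ {x y : A}, y ∈ M x → M y ⊆ M x := by
    intro x y hy z hz
    obtain ⟨r, hr, rfl⟩ := memM.mp hy
    obtain ⟨s, hs, rfl⟩ := memM.mp hz
    exact memM.mpr ⟨s * r, R.mul_mem hs hr, rfl⟩
  have hle : ∀ x y : A, x ≠ 0 → y ≠ 0 → (M x).card ≤ (M y).card := by
    intro x y hx hy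
    obtain ⟨h, hh⟩ := htrans y x hy hx
    refine le_trans (Finset.card_le_card (t := (M y).image (ρ h)) ?_) Finset.card_image_le
    intro z hz
    obtain ⟨r, hr, rfl⟩ := memM.mp hz
    have hmem : ρ h⁻¹ * r * ρ h ∈ R := by simpa using hnorm h⁻¹ r hr
    refine Finset.mem_image.mpr ⟨(ρ h⁻¹ * r * ρ h) y, memM.mpr ⟨_, hmem, rfl⟩, ?_⟩
    show ρ h (ρ h⁻¹ (r (ρ h y))) = r x
    rw [hh, show ∀ u, ρ h (ρ h⁻¹ u) = (ρ h * ρ h⁻¹) u from fun u => rfl, ← map_mul, mul_inv_cancel, map_one]
    rfl
  have eqM : ∀ {x y : A}, x ≠ 0 → y ≠ 0 → y ∈ M x → M y = M x := fun hx hy hm =>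
    Finset.eq_of_subset_of_card_le (sub hm) (hle _ _ hx hy)
  -- no zero divisors
  have hreg : ∀ r ∈ R, ∀ x : A, x ≠ 0 → r x = 0 → r = 0 := by
    intro r hr x hx hrx
    refine AddMonoidHom.ext fun y => ?_
    show r y = 0
    by_cases hy : y ∈ M x
    · obtain ⟨s, hs, rfl⟩ := memM.mp hy
      have e : r * s = s * r := congrArg Subtype.val (hRc.is_comm.comm (⟨r, hr⟩ : R) ⟨s, hs⟩)
      show (r * s) x = 0
      rw [e]
      show s (r x) = 0
      rw [hrx, map_zero]
    by_contra he
    have hy0 : y ≠ 0 := fun e => he (by rw [e, map_zero])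
    have hxy : x + y ≠ 0 := fun e => hy (memM.mpr ⟨-1, R.neg_mem R.one_mem, by
      show -x = y
      exact (eq_neg_of_add_eq_zero_right e).symm⟩)
    have e1 : r (x + y) = r y := by rw [map_add, hrx, zero_add]
    have h1 : M (r y) = M y := eqM hy0 he (memM.mpr ⟨r, hr, rfl⟩)
    have h2 : M (r y) = M (x + y) := eqM hxy he (memM.mpr ⟨r, hr, e1⟩)
    have hmem : x + y ∈ M y := by rw [← h1, h2]; exact self_mem _
    obtain ⟨s, hs, hsy⟩ := memM.mp hmem
    have hx' : x ∈ M y := memM.mpr ⟨s - 1, R.sub_mem hs R.one_mem, by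
      show s y - y = x
      rw [hsy]; abel⟩
    exact hy (eqM hy0 hx hx' ▸ self_mem y)
  haveI : Finite (AddMonoid.End A) := Finite.of_injective (fun f => (f : A → A)) DFunLike.coe_injective
  haveI : IsDomain R := by
    haveI : Nontrivial R := ⟨⟨0, 1, fun e => hx0 (by
      have := congrArg (fun t : R => (t : AddMonoid.End A) x0) e
      exact this.symm)⟩⟩
    haveI : NoZeroDivisors R := ⟨fun {p q} h => by
      by_contra hh
      push Not at hh
      have hq' : (q : AddMonoid.End A) x0 ≠ 0 := fun e => hh.2 (Subtype.ext (hreg _ q.2 x0 hx0 e))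
      have h' : (p : AddMonoid.End A) ((q : AddMonoid.End A) x0) = 0 :=
        congrArg (fun t : R => (t : AddMonoid.End A) x0) h
      exact hh.1 (Subtype.ext (hreg _ p.2 _ hq' h'))⟩
    exact NoZeroDivisors.to_isDomain R
  letI : CommRing R := { (inferInstance : Ring R) with mul_comm := hRc.is_comm.comm }
  have hF : IsField R := Finite.isField_of_domain R
  letI : Field R := hF.toField
  haveI := Fintype.ofFinite R
  haveI := Fintype.ofFinite A
  letI : Module R A :=
    { smul := fun r x => (r : AddMonoid.End A) x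
      one_smul := fun x => rfl
      mul_smul := fun r s x => rfl
      smul_zero := fun r => map_zero _
      smul_add := fun r x y => map_add _ x y
      add_smul := fun r s x => rfl
      zero_smul := fun x => rfl }
  haveI : Module.Finite R A := Module.Finite.of_finite
  -- the order of `O` divides the number of non-zero scalars
  have hO : Nat.card O ∣ Nat.card R - 1 := by
    let φ : O →* Rˣ := MonoidHom.toHomUnits
      { toFun := fun o => (⟨ρ o, Subring.subset_closure ⟨o, o.2, rfl⟩⟩ : R)
        map_one' := Subtype.ext (map_one ρ)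
        map_mul' := fun p q => Subtype.ext (map_mul ρ (p : H) q) }
    have h := Subgroup.card_dvd_of_injective φ fun p q hpq =>
      Subtype.ext (hinjρ (congrArg (fun t : Rˣ => ((t : R) : AddMonoid.End A)) hpq))
    rwa [Nat.card_units] at h
  have hpow : Nat.card A = Nat.card R ^ Module.finrank R A := Module.natCard_eq_pow_finrank
  -- the dimension is not one
  have hne : Nat.card A ≠ Nat.card R := by
    intro e
    have hbij : Function.Bijective fun r : R => (r : AddMonoid.End A) x0 :=
      (Nat.bijective_iff_injective_and_card _).mpr ⟨fun p q h => by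
        refine Subtype.ext (sub_eq_zero.mp (hreg _ (R.sub_mem p.2 q.2) x0 hx0 ?_))
        show (p : AddMonoid.End A) x0 - (q : AddMonoid.End A) x0 = 0
        exact sub_eq_zero.mpr h, e.symm⟩
    have key : ∀ c : H, (∀ x ∈ O, c * x = x * c) → ρ c ∈ R := by
      intro c hc
      obtain ⟨r, hr⟩ := hbij.2 (ρ c x0)
      have : ρ c = (r : AddMonoid.End A) := by
        refine AddMonoidHom.ext fun y => ?_
        obtain ⟨s, rfl⟩ := hbij.2 y
        have e1 := hcent (ρ c) (by rintro _ ⟨o, ho, rfl⟩; rw [← map_mul, ← map_mul, hc o ho]) _ s.2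
        have e2 : (r : AddMonoid.End A) * s = s * r := congrArg Subtype.val (hRc.is_comm.comm r s)
        show (ρ c * (s : AddMonoid.End A)) x0 = ((r : AddMonoid.End A) * (s : AddMonoid.End A)) x0
        rw [e1, e2]
        exact congrArg (s : AddMonoid.End A) hr.symm
      rw [this]; exact r.2
    exact hab (hinjρ (by
      rw [map_mul, map_mul]
      exact congrArg Subtype.val (hRc.is_comm.comm (⟨ρ a, key a haO⟩ : R) ⟨ρ b, key b hbO⟩)))
  -- arithmetic
  set Q := Nat.card R
  set m := Module.finrank R A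
  set o := Nat.card O
  have hQ2 : 2 ≤ Q := Finite.one_lt_card
  have ho : 0 < o := Nat.card_pos
  have hm : 2 ≤ m := by
    by_contra hm
    interval_cases m
    · rw [pow_zero] at hpow; have := Fact.out (p := 1 < Nat.card A); omega
    · rw [pow_one] at hpow; exact hne hpow
  have hQodd : Odd Q := by
    have := hodd
    rw [hpow, Nat.odd_pow_iff (by omega)] at this
    exact this
  have hQ3 : 3 ≤ Q := by obtain ⟨k, hk⟩ := hQodd; omega
  have hle' : o ≤ Q - 1 := Nat.le_of_dvd (by omega) hO
  have hQm : Q ^ m = 12 * o + 1 := by omega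
  have hm2 : m = 2 := by
    by_contra hm2
    have h3 : Q * Q * Q ≤ Q ^ m := by
      calc Q * Q * Q = Q ^ 3 := by ring
        _ ≤ Q ^ m := Nat.pow_le_pow_right (by omega) (by omega)
    obtain ⟨t, ht⟩ := Nat.exists_eq_add_of_le hQ3
    have ho' : o ≤ t + 2 := by omega
    rw [ht] at h3
    rw [ht] at hQm
    nlinarith [h3, hQm, ho', Nat.zero_le (t * t * t), Nat.zero_le (t * t)]
  rw [hm2] at hQm
  have hQ11 : Q ≤ 11 := by
    by_contra h
    have h1 : 12 * Q ≤ Q ^ 2 := by rw [sq]; exact Nat.mul_le_mul_right Q (by omega)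
    omega
  obtain ⟨i, hi⟩ := hQodd
  clear_value Q o m
  interval_cases Q <;> norm_num at hQm hO <;> interval_cases o <;> omega

end Cfsg.Agent.Block.Zas.IndexTwo
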