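import Cfsg.Agent.Lib.Block.Zas.IndexTwo.Quaternion
import Cfsg.Agent.Lib.Block.Zas.IndexTwo.FieldBound
import Cfsg.Agent.Lib.Block.Zas.SharpEven
import Cfsg.Agent.Lib.Block.Zas.SignSemi
import Cfsg.Agent.Lib.Block.Zas.OddStab

/-!
# The two-point stabilizer maps onto `{±1}`

In a sharply triply transitive permutation group of even degree at least six, the two-point stabilizer
has a homomorphism onto `{±1}` invariant under an involution exchanging the two points.
-/

set_option autoImplicit false

namespace Cfsg.Agent.Block.Zas.IndexTwo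

open MulAction

variable {α : Type*} [Fintype α] [DecidableEq α] {G : Subgroup (Equiv.Perm α)}

/-- Two elements agree when they agree on three points. -/
theorem eq_of_three (D : Frame G α) {g g' : G} {x y u : α} (hxy : x ≠ y) (hyu : y ≠ u) (hxu : x ≠ u)
    (h1 : g • x = g' • x) (h2 : g • y = g' • y) (h3 : g • u = g' • u) : g = g' :=
  (inv_mul_eq_one.mp (D.free3 (g'⁻¹ * g) x y u hxy hyu hxu (by rw [mul_smul, h1, inv_smul_smul])
    (by rw [mul_smul, h2, inv_smul_smul]) (by rw [mul_smul, h3, inv_smul_smul]))).symm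

/-- A character invariant under the exchange. -/
theorem exists_invariant_sign {H : Type*} [Group H] (σ : H ≃* H) (hσ : ∀ x, σ (σ x) = x)
    (h : ∃ χ : H →* ℤˣ, χ ≠ 1) : ∃ χ : H →* ℤˣ, χ ≠ 1 ∧ ∀ x, χ (σ x) = χ x := by
  obtain ⟨χ, hχ⟩ := h
  by_cases e : ∀ x, χ (σ x) = χ x
  · exact ⟨χ, hχ, e⟩
  refine ⟨χ * χ.comp σ.toMonoidHom, fun h1 => e fun x => ?_, fun x => ?_⟩
  · have h2 : χ x * χ (σ x) = 1 := DFunLike.congr_fun h1 x
    rcases Int.units_eq_one_or (χ x) with p | p <;> rcases Int.units_eq_one_or (χ (σ x)) with q | q <;>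
      rw [p, q] at h2 ⊢ <;> simp_all
  · show χ (σ x) * χ (σ (σ x)) = χ x * χ (σ x)
    rw [hσ, mul_comm]

set_option maxHeartbeats 1000000 in
/-- The main statement. -/
theorem exists_sign (D : Frame G α) (h3 : IsMultiplyPretransitive G α 3)
    (hd : Nat.card D.H = Nat.card D.F - 1)
    (htr : ∀ z w : α, z ≠ D.a → z ≠ D.b → w ≠ D.a → w ≠ D.b → ∃ h ∈ D.H, h • z = w)
    (heven : Even (Fintype.card α)) (h6 : 6 ≤ Fintype.card α)
    (h33 : ∀ A B : Subgroup G, A ≤ D.H → B ≤ D.H → Nat.card A = 3 → Nat.card B = 3 → A = B)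
    {s : G} {c : α} (hca : c ≠ D.a) (hcb : c ≠ D.b) (hsa : s • D.a = D.b) (hsb : s • D.b = D.a)
    (hsc : s • c = c) :
    ∃ χ : D.H →* ℤˣ, χ ≠ 1 ∧ ∀ h : D.H, χ ⟨s * h * s⁻¹, D.swap_conj_mem hsa hsb h⟩ = χ h := by
  classical
  have hcα : Fintype.card α = Nat.card D.F + 1 := by rw [← Nat.card_eq_fintype_card, D.card_points]
  have hn : 2 ≤ Nat.card D.F := by omega
  have hFodd : Odd (Nat.card D.F) := by
    rw [hcα, Nat.even_add_one, Nat.not_even_iff_odd] at heven; exact heven
  have hHeven : Even (Nat.card D.H) := by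
    rw [hd]; obtain ⟨k, hk⟩ := hFodd; exact ⟨k, by omega⟩
  have hs2 : s * s = 1 := D.free3 (s * s) D.a D.b c D.hab hcb.symm hca.symm
    (by rw [mul_smul, hsa, hsb]) (by rw [mul_smul, hsb, hsa]) (by rw [mul_smul, hsc, hsc])
  have hsinv : s⁻¹ = s := inv_eq_of_mul_eq_one_right hs2
  obtain ⟨z, hz, hz1, hz2⟩ := D.exists_involution hHeven
  have huniq : ∀ x ∈ D.H, x * x = 1 → x = 1 ∨ x = z := fun x hx hx2 =>
    (em (x = 1)).imp_right fun hx1 => D.involution_unique hn hz hz1 hz2 hx hx1 hx2
  have hzK : ∀ t : G, t • D.a = D.b → t • D.b = D.a → t * z * t⁻¹ = z := fun t hta htb =>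
    D.involution_unique hn hz hz1 hz2 (D.swap_conj_mem hta htb ⟨z, hz⟩)
      (fun e => hz1 (conj_eq_one_iff.mp e)) (by
        calc t * z * t⁻¹ * (t * z * t⁻¹) = t * (z * z) * t⁻¹ := by group
          _ = 1 := by rw [hz2]; group)
  have hzs : s * z = z * s := by
    have := hzK s hsa hsb
    conv_rhs => rw [← this]
    group
  have hzc : z • c ≠ c := fun e => hz1 (D.free3 z D.a D.b c D.hab hcb.symm hca.symm hz.1 hz.2 e)
  have hs1 : s ≠ 1 := fun e => D.hab (by rwa [e, one_smul] at hsa)
  have hszc : s • z • c = z • c := by rw [← mul_smul, hzs, mul_smul, hsc]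
  have hsfix : ∀ x : α, s • x = x → x = c ∨ x = z • c := by
    intro x hx
    by_contra h
    push Not at h
    exact hs1 (D.free3 s c (z • c) x hzc.symm h.2.symm h.1.symm hsc hszc hx)
  have hHpt : ∀ {h : G}, h ∈ D.H → ∀ x, x ≠ D.a → x ≠ D.b → h • x = x → h = 1 :=
    fun hh x hxa hxb e => D.free3 _ D.a D.b x D.hab hxb.symm hxa.symm hh.1 hh.2 e
  let σ : D.H ≃* D.H :=
    { toFun := D.swapConj hsa hsb
      invFun := D.swapConj hsa hsb
      left_inv := fun h => Subtype.ext (by
        show s * (s * (h : G) * s⁻¹) * s⁻¹ = h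
        rw [hsinv]
        calc s * (s * (h : G) * s) * s = (s * s) * h * (s * s) := by group
          _ = h := by rw [hs2, one_mul, mul_one])
      right_inv := fun h => Subtype.ext (by
        show s * (s * (h : G) * s⁻¹) * s⁻¹ = h
        rw [hsinv]
        calc s * (s * (h : G) * s) * s = (s * s) * h * (s * s) := by group
          _ = h := by rw [hs2, one_mul, mul_one])
      map_mul' := map_mul _ }
  let E : Data D.H :=
    { z := ⟨z, hz⟩
      σ := σ
      hz := fun e => hz1 (congrArg Subtype.val e)
      hz2 := Subtype.ext hz2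
      huniq := fun x hx => (huniq x x.2 (congrArg Subtype.val hx)).imp Subtype.ext Subtype.ext
      hσ2 := σ.left_inv
      hfix := fun x hx => by
        have e : s * (x : G) * s⁻¹ = x := congrArg Subtype.val hx
        have e' : s • (x : G) • c = (x : G) • c := by
          conv_rhs => rw [← e, mul_smul, mul_smul, inv_smul_eq_iff.2 hsc.symm]
        rcases hsfix _ e' with h | h
        · exact Or.inl (Subtype.ext (hHpt x.2 c hca hcb h))
        · exact Or.inr (Subtype.ext (eq_of_three D D.hab hcb.symm hca.symm (x.2.1.trans hz.1.symm)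
            (x.2.2.trans hz.2.symm) h)) }
  refine exists_invariant_sign σ σ.left_inv ?_
  by_contra hno
  push Not at hno
  let ε : G →* ℤˣ := Equiv.Perm.sign.comp G.subtype
  have hεH : ∀ h ∈ D.H, ε h = 1 := fun h hh =>
    DFunLike.congr_fun (hno (ε.comp D.H.subtype)) ⟨h, hh⟩
  have hsupp : ∀ h : G, h ∈ D.H → h ≠ 1 → (h : Equiv.Perm α).support.card = Nat.card D.H := by
    intro h hh hne
    have e : (h : Equiv.Perm α).support = (Finset.univ.erase D.a).erase D.b := by
      ext x
      simp only [Equiv.Perm.mem_support, Finset.mem_erase, Finset.mem_univ, and_true]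
      constructor
      · intro hx
        exact ⟨fun e => hx (e ▸ hh.2), fun e => hx (e ▸ hh.1)⟩
      · intro hx e
        exact hne (hHpt hh x hx.2 hx.1 (show h • x = x from e))
    rw [e, Finset.card_erase_of_mem (Finset.mem_erase.mpr ⟨D.b_ne, Finset.mem_univ _⟩),
      Finset.card_erase_of_mem (Finset.mem_univ _), Finset.card_univ, hd, hcα]
    omega
  -- no element of the stabilizer has full two-part order
  have hsgn : ∀ (x : D.H) (m : ℕ), Even (orderOf x) → orderOf x * m = Nat.card D.H → ¬ Odd m := by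
    rintro ⟨x, hx⟩ m he hm hodd
    rw [Subgroup.orderOf_mk] at he hm
    have hx1 : x ≠ 1 := fun e => by rw [e, orderOf_one] at he; exact Nat.not_even_one he
    have hord : orderOf (x : Equiv.Perm α) = orderOf x := Subgroup.orderOf_coe x
    have h1 : Equiv.Perm.sign (x : Equiv.Perm α) = -1 := by
      rw [sign_of_semiregular (x : Equiv.Perm α) (m := m) ?_ (by rw [hsupp x hx hx1, hord, hm]), hord]
      · exact ((he.mul_right m).add_odd hodd).neg_one_pow
      · intro i y hy hiy
        rw [Equiv.Perm.mem_support] at hy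
        have : x ^ i = 1 := hHpt (pow_mem hx i) y (fun e => hy (e ▸ hx.1)) (fun e => hy (e ▸ hx.2)) hiy
        rw [← Subgroup.coe_pow, this]; rfl
    exact absurd ((hεH x hx).symm.trans h1) (by decide)
  obtain ⟨i4, hi4⟩ : 4 ∣ Nat.card D.H := by
    obtain ⟨k, hk⟩ := hHeven
    rcases Nat.even_or_odd k with ⟨l, hl⟩ | hodd
    · exact ⟨l, by omega⟩
    · refine absurd hodd (hsgn ⟨z, hz⟩ k ?_ ?_) <;>
        rw [show orderOf (⟨z, hz⟩ : D.H) = 2 from
          orderOf_eq_prime (Subtype.ext (by rw [sq]; exact hz2)) (fun e => hz1 (congrArg Subtype.val e))]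
      · exact even_two
      · omega
  have hex : ∃ v : D.H, v * v = E.z := by
    haveI := Fact.mk Nat.prime_two
    obtain ⟨K, hK⟩ := Sylow.exists_subgroup_card_pow_prime (G := D.H) 2 (n := 2) ⟨i4, hi4⟩
    by_contra hcon
    push Not at hcon
    have hsub : (K : Set D.H) ⊆ ({1, E.z} : Finset D.H) := by
      intro x hx
      have h4 : (x * x) * (x * x) = 1 := by
        have hd' := Subgroup.orderOf_dvd_natCard K hx
        rw [hK] at hd'
        have : orderOf x ∣ 4 := hd'
        rw [← sq, ← sq, ← pow_mul]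
        exact orderOf_dvd_iff_pow_eq_one.mp this
      have hxx : x * x = 1 := (E.huniq _ h4).resolve_right (hcon x)
      simpa using E.huniq x hxx
    have := Set.ncard_le_ncard hsub (Finset.finite_toSet _)
    rw [← Nat.card_coe_set_eq, Set.ncard_coe_finset] at this
    have h2 : ({1, E.z} : Finset D.H).card ≤ 2 := Finset.card_le_two
    change Nat.card K ≤ _ at this
    omega
  obtain ⟨l8, hl8⟩ : Even i4 := by
    obtain ⟨v, hv⟩ := hex
    rw [← Nat.not_odd_iff_even]
    have ho : orderOf v = 4 := by
      refine orderOf_eq_prime_pow (p := 2) (n := 1) ?_ ?_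
      · rw [pow_one, sq, hv]; exact E.hz
      · rw [show (2 : ℕ) ^ (1 + 1) = 2 + 2 from rfl, pow_add, sq, hv, E.hz2]
    exact hsgn v i4 (by rw [ho]; exact ⟨2, rfl⟩) (by rw [ho, hi4])
  -- signs of exchanging elements
  have hεs : ε s = 1 := by
    have e : (s : Equiv.Perm α).support = (Finset.univ.erase c).erase (z • c) := by
      ext x
      simp only [Equiv.Perm.mem_support, Finset.mem_erase, Finset.mem_univ, and_true]
      constructor
      · intro hx
        exact ⟨fun e => hx (e ▸ hszc), fun e => hx (e ▸ hsc)⟩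
      · intro hx e
        rcases hsfix x e with h | h
        · exact hx.2 h
        · exact hx.1 h
    have ho : orderOf (s : Equiv.Perm α) = 2 := by
      rw [Subgroup.orderOf_coe]; exact orderOf_eq_prime (by rw [sq, hs2]) hs1
    show Equiv.Perm.sign (s : Equiv.Perm α) = 1
    rw [sign_of_semiregular (s : Equiv.Perm α) (m := 2 * i4) ?_ ?_, ho]
    · exact Even.neg_one_pow ⟨3 * i4, by omega⟩
    · intro i y hy hiy
      rw [Equiv.Perm.mem_support] at hy
      obtain ⟨j, rfl⟩ | ⟨j, rfl⟩ := Nat.even_or_odd i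
      · rw [← two_mul, pow_mul, ← ho, pow_orderOf_eq_one, one_pow]
      · exfalso
        rw [pow_succ, pow_mul, ← ho, pow_orderOf_eq_one, one_pow, one_mul] at hiy
        exact hy hiy
    · rw [e, ho, Finset.card_erase_of_mem (Finset.mem_erase.mpr ⟨hzc, Finset.mem_univ _⟩),
        Finset.card_erase_of_mem (Finset.mem_univ _), Finset.card_univ, hcα]
      omega
  have hεt : ∀ t : G, t • D.a = D.b → t • D.b = D.a → ε t = 1 := by
    intro t hta htb
    have hh : t * s ∈ D.H := ⟨show (t * s) • D.a = D.a by rw [mul_smul, hsa, htb],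
      show (t * s) • D.b = D.b by rw [mul_smul, hsb, hta]⟩
    have := hεH _ hh
    rwa [map_mul, hεs, mul_one] at this
  -- every exchanging element squaring into the centre is conjugate to `s`
  have fact : ∀ t : G, t • D.a = D.b → t • D.b = D.a → (t * t = 1 ∨ t * t = z) →
      ∃ k ∈ D.H, t = k * s * k⁻¹ := by
    intro t hta htb ht
    have hmod8 : Nat.card D.F = 8 * l8 + 1 := by omega
    rcases ht with ht | ht
    · -- some fixed point
      obtain ⟨x, hx⟩ : ∃ x : α, t • x = x := by
        by_contra hcon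
        push Not at hcon
        have ho : orderOf (t : Equiv.Perm α) = 2 := by
          rw [Subgroup.orderOf_coe]
          exact orderOf_eq_prime (by rw [sq, ht]) (fun e => D.hab (by rwa [e, one_smul] at hta))
        have hsg : Equiv.Perm.sign (t : Equiv.Perm α) = -1 := by
          rw [sign_of_semiregular (t : Equiv.Perm α) (m := 4 * l8 + 1) ?_ ?_, ho]
          · exact Odd.neg_one_pow ⟨6 * l8 + 1, by omega⟩
          · intro i y hy hiy
            obtain ⟨j, rfl⟩ | ⟨j, rfl⟩ := Nat.even_or_odd i
            · rw [← two_mul, pow_mul, ← ho, pow_orderOf_eq_one, one_pow]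
            · exfalso
              rw [pow_succ, pow_mul, ← ho, pow_orderOf_eq_one, one_pow, one_mul] at hiy
              exact hcon y hiy
          · rw [ho, show (t : Equiv.Perm α).support = Finset.univ from
              Finset.eq_univ_of_forall fun y => Equiv.Perm.mem_support.mpr (hcon y), Finset.card_univ,
              hcα]
            omega
        exact absurd ((hεt t hta htb).symm.trans hsg) (by decide)
      have hxa : x ≠ D.a := fun e => D.hab (by rw [← hta, ← e, hx])
      have hxb : x ≠ D.b := fun e => D.hab (by rw [← htb, ← e, hx])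
      obtain ⟨k, hk, hkc⟩ := htr c x hca hcb hxa hxb
      have hka : k⁻¹ • D.a = D.a := inv_smul_eq_iff.2 hk.1.symm
      have hkb : k⁻¹ • D.b = D.b := inv_smul_eq_iff.2 hk.2.symm
      have hkx : k⁻¹ • x = c := inv_smul_eq_iff.2 hkc.symm
      refine ⟨k, hk, eq_of_three D D.hab hxb.symm hxa.symm ?_ ?_ ?_⟩
      · rw [hta, mul_smul, mul_smul, hka, hsa, hk.2]
      · rw [htb, mul_smul, mul_smul, hkb, hsb, hk.1]
      · rw [hx, mul_smul, mul_smul, hkx, hsc, hkc]
    · exfalso
      set τ : Equiv.Perm α := Equiv.swap D.a D.b * (t : Equiv.Perm α) with hτ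
      have hτa : τ D.a = D.a := by
        show Equiv.swap D.a D.b ((t : Equiv.Perm α) D.a) = D.a
        rw [show (t : Equiv.Perm α) D.a = D.b from hta, Equiv.swap_apply_right]
      have hτb : τ D.b = D.b := by
        show Equiv.swap D.a D.b ((t : Equiv.Perm α) D.b) = D.b
        rw [show (t : Equiv.Perm α) D.b = D.a from htb, Equiv.swap_apply_left]
      have hout : ∀ y, y ≠ D.a → y ≠ D.b → τ y = t • y ∧ t • y ≠ D.a ∧ t • y ≠ D.b := by
        intro y hya hyb
        have h1 : t • y ≠ D.a := fun e => hyb (smul_left_cancel t (e.trans htb.symm))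
        have h2 : t • y ≠ D.b := fun e => hya (smul_left_cancel t (e.trans hta.symm))
        exact ⟨Equiv.swap_apply_of_ne_of_ne h1 h2, h1, h2⟩
      have hpow : ∀ (i : ℕ) y, y ≠ D.a → y ≠ D.b →
          (τ ^ i) y = (t ^ i) • y ∧ (t ^ i) • y ≠ D.a ∧ (t ^ i) • y ≠ D.b := by
        intro i
        induction i with
        | zero => intro y hya hyb; simp [hya, hyb]
        | succ i ih =>
          intro y hya hyb
          obtain ⟨h1, h2, h3⟩ := ih y hya hyb
          rw [pow_succ', Equiv.Perm.mul_apply, h1, pow_succ', mul_smul]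
          exact hout _ h2 h3
      have ht4 : t ^ 4 = 1 := by rw [show 4 = 2 + 2 from rfl, pow_add, sq, ht, hz2]
      have hfree : ∀ (i : ℕ) y, y ≠ D.a → y ≠ D.b → (t ^ i) • y = y → i % 4 = 0 := by
        intro i y hya hyb hi
        rw [pow_eq_pow_mod i ht4] at hi
        have h4 := Nat.mod_lt i (show 4 > 0 by norm_num)
        have hzy : z • y ≠ y := fun e => hz1 (hHpt hz y hya hyb e)
        interval_cases i % 4
        · rfl
        · exfalso; rw [pow_one] at hi; exact hzy (by rw [← ht, mul_smul, hi, hi])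
        · exfalso; rw [sq, ht] at hi; exact hzy hi
        · exfalso
          refine hzy ?_
          have h' : t⁻¹ • y = y := by
            rwa [show t⁻¹ = t ^ 3 from inv_eq_of_mul_eq_one_right (by rw [← pow_succ', ht4])]
          have h'' : t • y = y := by conv_lhs => rw [← h', smul_inv_smul]
          rw [← ht, mul_smul, h'', h'']
      have hsuppτ : τ.support = (Finset.univ.erase D.a).erase D.b := by
        ext x
        simp only [Equiv.Perm.mem_support, Finset.mem_erase, Finset.mem_univ, and_true]
        constructor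
        · intro hx
          exact ⟨fun e => hx (e ▸ hτb), fun e => hx (e ▸ hτa)⟩
        · intro hx e
          have := hfree 1 x hx.2 hx.1 (by rw [pow_one, ← (hout x hx.2 hx.1).1, e])
          omega
      have hτpow : ∀ i, i % 4 = 0 → τ ^ i = 1 := by
        intro i hi
        refine Equiv.ext fun y => ?_
        rw [Equiv.Perm.one_apply]
        by_cases hya : y = D.a
        · rw [hya]; exact Equiv.Perm.pow_apply_eq_self_of_apply_eq_self hτa i
        by_cases hyb : y = D.b
        · rw [hyb]; exact Equiv.Perm.pow_apply_eq_self_of_apply_eq_self hτb i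
        rw [(hpow i y hya hyb).1, pow_eq_pow_mod i ht4, hi, pow_zero, one_smul]
      have hoτ : orderOf τ = 4 := by
        refine orderOf_eq_prime_pow (p := 2) (n := 1) (fun h => ?_) (hτpow 4 rfl)
        rw [pow_one] at h
        have e : (τ ^ 2) c = c := by rw [h]; rfl
        rw [(hpow 2 c hca hcb).1] at e
        have := hfree 2 c hca hcb e
        omega
      have hsg : Equiv.Perm.sign τ = 1 := by
        rw [sign_of_semiregular τ (m := 2 * l8) ?_ ?_, hoτ]
        · exact Even.neg_one_pow ⟨5 * l8, by omega⟩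
        · intro i y hy hiy
          rw [hsuppτ] at hy
          simp only [Finset.mem_erase, Finset.mem_univ, and_true] at hy
          rw [(hpow i y hy.2 hy.1).1] at hiy
          exact hτpow i (hfree i y hy.2 hy.1 hiy)
        · rw [hsuppτ, hoτ, Finset.card_erase_of_mem (Finset.mem_erase.mpr ⟨D.b_ne, Finset.mem_univ _⟩),
            Finset.card_erase_of_mem (Finset.mem_univ _), Finset.card_univ, hcα]
          omega
      rw [hτ, map_mul, Equiv.Perm.sign_swap D.hab] at hsg
      have h1 : Equiv.Perm.sign (t : Equiv.Perm α) = 1 := hεt t hta htb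
      rw [h1] at hsg
      exact absurd hsg (by decide)
  -- commuting modulo the centre
  have hzmem : ∀ {x : G}, (x = 1 ∨ x = z) → x • D.a = D.a := by
    rintro x (rfl | rfl)
    · exact one_smul _ _
    · exact hz.1
  have hkey : ∀ v : D.H, v * v = E.z → ∃ w, E.σ w = w * E.z ∧ Rel E.z w v := by
    intro v hv
    have hvv : (v : G) * v = z := congrArg Subtype.val hv
    have hvz : (v : G) * z = z * v := by rw [← hvv, mul_assoc]
    have hvne := E.four_ne hv
    set g : G := s * v with hg
    have hga : g • D.a = D.b := by rw [hg, mul_smul, v.2.1, hsa]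
    have hgb : g • D.b = D.a := by rw [hg, mul_smul, v.2.2, hsb]
    have hpowpt : ∀ i : ℕ, (Even i → (g ^ i) • D.a = D.a ∧ (g ^ i) • D.b = D.b) ∧
        (Odd i → (g ^ i) • D.a = D.b ∧ (g ^ i) • D.b = D.a) := by
      intro i
      induction i with
      | zero => simp
      | succ i ih =>
        constructor
        · intro hi
          have ho : Odd i := by rwa [Nat.even_add_one, Nat.not_even_iff_odd] at hi
          rw [pow_succ']
          exact ⟨by rw [mul_smul g, (ih.2 ho).1, hgb], by rw [mul_smul g, (ih.2 ho).2, hga]⟩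
        · intro hi
          have he : Even i := by rwa [Nat.odd_add_one, Nat.not_odd_iff_even] at hi
          rw [pow_succ']
          exact ⟨by rw [mul_smul g, (ih.1 he).1, hga], by rw [mul_smul g, (ih.1 he).2, hgb]⟩
    have hPex : ∃ i, 0 < i ∧ (g ^ i = 1 ∨ g ^ i = z) :=
      ⟨orderOf g, orderOf_pos g, Or.inl (pow_orderOf_eq_one g)⟩
    obtain ⟨N, ⟨hN0, hN⟩, hmin⟩ : ∃ N, (0 < N ∧ (g ^ N = 1 ∨ g ^ N = z)) ∧
        ∀ i < N, ¬ (0 < i ∧ (g ^ i = 1 ∨ g ^ i = z)) :=
      ⟨Nat.find hPex, Nat.find_spec hPex, fun i hi => Nat.find_min hPex hi⟩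
    obtain ⟨m, rfl⟩ : Even N := by
      rw [← Nat.not_odd_iff_even]
      intro ho
      exact D.hab ((hzmem hN).symm.trans ((hpowpt N).2 ho).1)
    set t := g ^ m with ht
    have ht12 : ¬ (t = 1 ∨ t = z) := fun h => hmin m (by omega) ⟨by omega, h⟩
    have htt : t * t = 1 ∨ t * t = z := by rwa [ht, ← pow_add]
    have hgz : g * z = z * g := by
      rw [hg, mul_assoc, hvz, ← mul_assoc, hzs, mul_assoc]
    have hconjg : s * g * s⁻¹ = g⁻¹ * z ∧ (v : G) * g * (v : G)⁻¹ = g⁻¹ * z := by
      have e : g⁻¹ * z = v * s := by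
        rw [inv_mul_eq_iff_eq_mul, hg]
        calc z = s * s * z := by rw [hs2, one_mul]
          _ = s * (z * s) := by rw [mul_assoc, hzs]
          _ = s * ((v : G) * v * s) := by rw [hvv]
          _ = s * v * (v * s) := by group
      rw [e, hg]
      constructor
      · calc s * (s * (v : G)) * s⁻¹ = (s * s) * v * s⁻¹ := by group
          _ = v * s := by rw [hs2, one_mul, hsinv]
      · group
    have hconj : ∀ u : G, u * g * u⁻¹ = g⁻¹ * z → u * t * u⁻¹ = t ∨ u * t * u⁻¹ = t * z := by
      intro u hu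
      have hc : Commute g⁻¹ z := Commute.inv_left hgz
      have e : u * t * u⁻¹ = t⁻¹ * z ^ m := by
        rw [ht, ← conj_pow, hu, hc.mul_pow, inv_pow]
      have hzm : z ^ m = 1 ∨ z ^ m = z := by
        rcases Nat.even_or_odd m with ⟨j, rfl⟩ | ⟨j, rfl⟩
        · left; rw [← two_mul, pow_mul, sq, hz2, one_pow]
        · right; rw [pow_succ, pow_mul, sq, hz2, one_pow, one_mul]
      have hti : t⁻¹ = t ∨ t⁻¹ = t * z := by
        rcases htt with h | h
        · exact Or.inl (inv_eq_of_mul_eq_one_right h)
        · exact Or.inr (inv_eq_of_mul_eq_one_right (by rw [← mul_assoc, h, hz2]))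
      rw [e]
      rcases hti with h | h <;> rcases hzm with h' | h' <;> rw [h, h']
      · exact Or.inl (mul_one t)
      · exact Or.inr rfl
      · exact Or.inr (mul_one _)
      · exact Or.inl (by rw [mul_assoc, hz2, mul_one])
    have hst := hconj s hconjg.1
    have hvt := hconj v hconjg.2
    by_cases htH : t ∈ D.H
    · refine ⟨⟨t, htH⟩, ?_, ?_⟩
      · apply Subtype.ext
        refine hst.resolve_left fun e => ?_
        rcases E.hfix ⟨t, htH⟩ (Subtype.ext e) with h | h
        · exact ht12 (Or.inl (congrArg Subtype.val h))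
        · exact ht12 (Or.inr (congrArg Subtype.val h))
      · rcases hvt with h | h
        · left
          exact Subtype.ext (mul_inv_eq_iff_eq_mul.mp h).symm
        · right
          apply Subtype.ext
          show t * (v : G) = v * t * z
          rw [mul_inv_eq_iff_eq_mul.mp h, mul_assoc t z v, ← hvz, ← mul_assoc t (v : G) z,
            mul_assoc _ z z, hz2, mul_one]
    · have hodd : Odd m := by
        rw [← Nat.not_even_iff_odd]
        exact fun he => htH ((hpowpt m).1 he)
      obtain ⟨hta, htb⟩ := (hpowpt m).2 hodd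
      obtain ⟨k, hk, htk⟩ := fact t hta htb htt
      have hhH : t * s ∈ D.H := ⟨show (t * s) • D.a = D.a by rw [mul_smul, hsa, htb],
        show (t * s) • D.b = D.b by rw [mul_smul, hsb, hta]⟩
      set h : D.H := ⟨t * s, hhH⟩ with hh
      by_cases hsmall : t * s = 1 ∨ t * s = z
      · -- `v` itself
        have hts : t = s ∨ t = z * s := by
          rcases hsmall with e | e
          · exact Or.inl (by rw [← mul_inv_eq_one, hsinv, e])
          · exact Or.inr (by rw [← e, mul_assoc, hs2, mul_one])
        refine ⟨v, ?_, Or.inl rfl⟩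
        apply Subtype.ext
        show s * (v : G) * s⁻¹ = v * z
        have hcase : s * (v : G) * s⁻¹ = v ∨ s * (v : G) * s⁻¹ = v * z := by
          have hvs : (v : G) * s * (v : G)⁻¹ = s ∨ (v : G) * s * (v : G)⁻¹ = s * z := by
            rcases hts with e | e <;> rw [e] at hvt
            · exact hvt
            · have hz' : (v : G) * (z * s) * (v : G)⁻¹ = z * ((v : G) * s * (v : G)⁻¹) := by
                rw [← mul_assoc (v : G) z s, hvz]; group
              rw [hz', mul_assoc z s z] at hvt
              exact hvt.imp mul_left_cancel mul_left_cancel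
          rcases hvs with e | e
          · left; rw [mul_inv_eq_iff_eq_mul]; exact (mul_inv_eq_iff_eq_mul.mp e).symm
          · right
            rw [mul_inv_eq_iff_eq_mul]
            have e' := mul_inv_eq_iff_eq_mul.mp e
            rw [mul_assoc (v : G) z s, ← hzs, ← mul_assoc, e', mul_assoc s z v, ← hvz, ← mul_assoc s,
              mul_assoc _ z z, hz2, mul_one]
        refine hcase.resolve_left fun e => ?_
        rcases E.hfix v (Subtype.ext e) with h' | h'
        · exact hvne.1 h'
        · exact hvne.2 h'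
      · -- `v` agrees with `t * s` modulo the centre
        push Not at hsmall
        have hσh : E.σ h = h * E.z := by
          apply Subtype.ext
          show s * (t * s) * s⁻¹ = t * s * z
          have : s * (t * s) * s⁻¹ = s * t := by group
          rw [this]
          rcases hst with e | e
          · exfalso
            have h1 : E.σ h = h := Subtype.ext (by
              show s * (t * s) * s⁻¹ = t * s
              rw [show s * (t * s) * s⁻¹ = s * t by group]
              exact mul_inv_eq_iff_eq_mul.mp e)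
            rcases E.hfix h h1 with h' | h'
            · exact hsmall.1 (congrArg Subtype.val h')
            · exact hsmall.2 (congrArg Subtype.val h')
          · rw [mul_inv_eq_iff_eq_mul.mp e, mul_assoc t z s, ← hzs, ← mul_assoc]
        have hth : t * (h : G) * t⁻¹ = h * z := by
          have e1 : s * (h : G) * s⁻¹ = h * z := congrArg Subtype.val hσh
          have e2 : t = (h : G) * s := by
            show t = t * s * s
            rw [mul_assoc, hs2, mul_one]
          conv_lhs => rw [e2]
          calc (h : G) * s * h * ((h : G) * s)⁻¹ = (h : G) * (s * h * s⁻¹) * (h : G)⁻¹ := by group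
            _ = (h : G) * ((h : G) * z) * (h : G)⁻¹ := by rw [e1]
            _ = h * z := by
              have hc : (h : G) * z = z * h := (congrArg Subtype.val (E.zcomm h)).symm
              calc (h : G) * ((h : G) * z) * (h : G)⁻¹ = (h : G) * ((h : G) * z * (h : G)⁻¹) := by group
                _ = h * z := by
                  rw [hc, mul_inv_cancel_right]
                  exact hc
        have hvt' : t * (v : G) * t⁻¹ = v ∨ t * (v : G) * t⁻¹ = v * z := by
          rcases hvt with e | e
          · left; rw [mul_inv_eq_iff_eq_mul]; exact (mul_inv_eq_iff_eq_mul.mp e).symm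
          · right
            rw [mul_inv_eq_iff_eq_mul]
            have e' := mul_inv_eq_iff_eq_mul.mp e
            have htz : t * z = z * t := by
              rw [ht]; exact (Commute.pow_left hgz m).eq
            rw [mul_assoc (v : G) z t, ← htz, ← mul_assoc (v : G) t z, e', mul_assoc t z v, ← hvz,
              ← mul_assoc t, mul_assoc _ z z, hz2, mul_one]
        let K : D.H := ⟨k, hk⟩
        have moved : ∀ u : D.H, u ≠ 1 → u ≠ E.z →
            (t * (u : G) * t⁻¹ = u ∨ t * (u : G) * t⁻¹ = u * z) →
            E.σ (K⁻¹ * u * K) = (K⁻¹ * u * K) * E.z := by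
          intro u h1 h2 hu
          have hval : ∀ r : G, t * (u : G) * t⁻¹ = r → s * (k⁻¹ * u * k) * s⁻¹ = k⁻¹ * r * k := by
            intro r hr; rw [← hr, htk]; group
          have hzk : k * z = z * k := (congrArg Subtype.val (E.zcomm K)).symm
          rcases hu with e | e
          · exfalso
            rcases E.hfix (K⁻¹ * u * K) (Subtype.ext (hval _ e)) with h' | h'
            · exact h1 (by
                have : u = K * (K⁻¹ * u * K) * K⁻¹ := by group
                rw [this, h']; group)
            · exact h2 (by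
                have : u = K * (K⁻¹ * u * K) * K⁻¹ := by group
                rw [this, h', ← E.zcomm K, mul_inv_cancel_right])
          · apply Subtype.ext
            show s * (k⁻¹ * (u : G) * k) * s⁻¹ = k⁻¹ * (u : G) * k * z
            rw [hval _ e]
            simp only [mul_assoc]
            rw [hzk]
        have hh1 : h ≠ 1 := fun e => hsmall.1 (congrArg Subtype.val e)
        have hh2 : h ≠ E.z := fun e => hsmall.2 (congrArg Subtype.val e)
        refine ⟨v, ?_, Or.inl rfl⟩
        rcases E.fix_coset (moved v hvne.1 hvne.2 hvt') (moved h hh1 hh2 (Or.inr hth)) with e | e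
        · rw [show v = h from mul_left_cancel (mul_right_cancel e)]; exact hσh
        · have : v = h * E.z := by
            rw [mul_assoc (K⁻¹ * h) K E.z, ← E.zcomm K, ← mul_assoc (K⁻¹ * h) E.z K, mul_assoc K⁻¹ h E.z] at e
            exact mul_left_cancel (mul_right_cancel e)
          rw [this, map_mul, hσh, E.σz]
  obtain ⟨a, b, O, ha, hb, hba, hOn, hO, hOc, h12, hsix⟩ :=
    E.quaternion_of_no_sign hkey hex hno hsgn
  haveI := hOn
  have hFc : ∀ x ∈ D.F, ∀ y ∈ D.F, x * y = y * x := fun x hx y hy =>
    D.F_comm_of_involution hz hz1 hz2 hx hy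
  letI : CommGroup D.F := { (inferInstance : Group D.F) with
    mul_comm := fun x y => Subtype.ext (hFc x x.2 y y.2) }
  let ρ : D.H →* AddMonoid.End (Additive D.F) :=
    { toFun := fun h => (MonoidHom.toAdditive
        { toFun := fun u => ⟨(h : G) * u * (h : G)⁻¹, D.H_conj h.2 u.2⟩
          map_one' := Subtype.ext (by simp)
          map_mul' := fun u w => Subtype.ext (by simp [mul_assoc]) } :
          Additive D.F →+ Additive D.F)
      map_one' := AddMonoidHom.ext fun u => Additive.toMul.injective (Subtype.ext (by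
        show (1 : G) * _ * (1 : G)⁻¹ = _
        simp; rfl))
      map_mul' := fun g h => AddMonoidHom.ext fun u => Additive.toMul.injective (Subtype.ext (by
        show (g : G) * h * _ * ((g : G) * h)⁻¹ = (g : G) * ((h : G) * _ * (h : G)⁻¹) * (g : G)⁻¹
        simp [mul_assoc])) }
  have hρ : ∀ (h : D.H) (u : Additive D.F), ((ρ h u).toMul : G) = (h : G) * (u.toMul : G) * (h : G)⁻¹ :=
    fun _ _ => rfl
  have hne : ∀ u : Additive D.F, u ≠ 0 → (u.toMul : G) ≠ 1 := fun u hu e =>
    hu (Additive.toMul.injective (Subtype.ext e))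
  have hpt : ∀ u : Additive D.F, u ≠ 0 → (u.toMul : G) • D.b ≠ D.a ∧ (u.toMul : G) • D.b ≠ D.b :=
    fun u hu => ⟨D.F_ne u.toMul.2 D.b_ne, fun e => hne u hu
      (D.F_inj u.toMul.2 D.F.one_mem D.b_ne (by rw [e, one_smul]))⟩
  have hcase := card_eq_two_or_ten ρ ?_ ?_ ?_ ?_ O hOc (a := a) (b := b)
    (fun x hx => ((hO x).mp hx).1.symm) (fun x hx => ((hO x).mp hx).2.symm) ?_ h12
  rotate_left
  · show Odd (Nat.card (Additive D.F))
    exact hFodd
  · show Nat.card D.H + 1 = Nat.card (Additive D.F)
    rw [hd]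
    change Nat.card D.F - 1 + 1 = Nat.card D.F
    omega
  · intro h u hu e
    have e' : (h : G) * (u.toMul : G) * (h : G)⁻¹ = u.toMul := by rw [← hρ, e]
    rcases D.fpf h.2 u.toMul.2 e' with h1 | h1
    · exact absurd h1 (hne u hu)
    · exact Subtype.ext h1
  · intro x y hx hy
    obtain ⟨h, hh, hxy⟩ := htr _ _ (hpt x hx).1 (hpt x hx).2 (hpt y hy).1 (hpt y hy).2
    refine ⟨⟨h, hh⟩, Additive.toMul.injective (Subtype.ext ?_)⟩
    refine D.F_inj (D.H_conj hh x.toMul.2) y.toMul.2 D.b_ne ?_
    show (h * (x.toMul : G) * h⁻¹) • D.b = (y.toMul : G) • D.b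
    rw [mul_smul, mul_smul, inv_smul_eq_iff.2 hh.2.symm, hxy]
  · intro e
    exact E.hz (mul_left_cancel ((hba.symm.trans e.symm).trans (mul_one (a * b)).symm))
  -- an element of order three
  haveI := Fact.mk Nat.prime_three
  obtain ⟨g3, hg3⟩ := exists_prime_orderOf_dvd_card' (G := D.H) 3
    (by rw [h12]; exact Dvd.dvd.mul_right (by norm_num) _)
  have hnorm : ∀ x : D.H, x * g3 * x⁻¹ ∈ Subgroup.zpowers g3 := by
    intro x
    have hc : ∀ y : D.H, orderOf y = 3 → Nat.card ((Subgroup.zpowers y).map D.H.subtype) = 3 := fun y hy => by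
      rw [Subgroup.card_map_of_injective D.H.subtype_injective, Nat.card_zpowers, hy]
    have h1 : orderOf (x * g3 * x⁻¹) = 3 :=
      ((SemiconjBy.conj_mk x g3).orderOf_eq x).symm.trans hg3
    have e := h33 _ _ (Subgroup.map_subtype_le _) (Subgroup.map_subtype_le _) (hc _ h1) (hc _ hg3)
    have e' := Subgroup.map_injective D.H.subtype_injective e
    rw [← e']; exact Subgroup.mem_zpowers _
  have hanti : ∀ v : D.H, (v = b ∨ v = b * E.z ∨ v = a * b ∨ v = a * b * E.z) →
      v * a = a * v * E.z := by
    have h1 : a * b * a = a * (a * b) * E.z := by rw [mul_assoc a b a, hba, ← mul_assoc]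
    have hs : ∀ v : D.H, v * a = a * v * E.z → (v * E.z) * a = a * (v * E.z) * E.z := by
      intro v e; rw [mul_assoc v, E.zcomm a, ← mul_assoc v, e]; simp only [mul_assoc]
    rintro v (rfl | rfl | rfl | rfl)
    exacts [hba, hs _ hba, h1, hs _ h1]
  have hcomm : ∀ v : D.H, v * v = E.z → g3 * v * g3⁻¹ * v⁻¹ ∈ Subgroup.zpowers g3 := by
    intro v _
    rw [show g3 * v * g3⁻¹ * v⁻¹ = g3 * (v * g3 * v⁻¹)⁻¹ by group]
    exact Subgroup.mul_mem _ (Subgroup.mem_zpowers _) (Subgroup.inv_mem _ (hnorm v))
  have hcube : ∀ u ∈ Subgroup.zpowers g3, u ^ 3 = 1 := fun u hu =>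
    orderOf_dvd_iff_pow_eq_one.mp (hg3 ▸ orderOf_dvd_of_mem_zpowers hu)
  have hsq_eq : ∀ u : D.H, u * u = 1 → u ^ 3 = 1 → u = 1 := fun u h2 h3 => by
    rwa [pow_succ, sq, h2, one_mul] at h3
  have hfour : ∀ u : D.H, u * u = E.z → u ^ 3 = 1 → False := fun u h2 h3 => by
    have e : u * E.z = 1 := by rw [← h2, ← mul_assoc, ← sq, ← pow_succ]; exact h3
    have e' : u = E.z := by rw [mul_eq_one_iff_eq_inv.mp e, E.zinv]
    rw [e', E.hz2] at h2
    exact E.hz h2.symm
  have fixes : ∀ p q : D.H, p * p = E.z → (∀ v : D.H, v * v = E.z → v ≠ p → v ≠ p * E.z →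
      v * p = p * v * E.z) → q = g3 * p * g3⁻¹ → q = p := by
    intro p q hp hanti' hq
    have hq2 : q * q = E.z := by rw [hq]; exact E.conj_four g3 hp
    have hu := hcube _ (hcomm p hp)
    rw [← hq] at hu
    by_cases e1 : q = p
    · exact e1
    exfalso
    by_cases e2 : q = p * E.z
    · rw [e2, show p * E.z = E.z * p from (E.zcomm p).symm, mul_inv_cancel_right] at hu
      exact E.hz (hsq_eq _ E.hz2 hu)
    · refine hfour _ ?_ hu
      rw [E.four_inv hp]
      calc q * (p * E.z) * (q * (p * E.z)) = q * p * (E.z * q) * (p * E.z) := by group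
        _ = q * p * q * (E.z * p) * E.z := by rw [E.zcomm q]; group
        _ = q * p * q * p := by
          rw [E.zcomm p, mul_assoc _ (p * E.z) E.z, mul_assoc p, E.hz2, mul_one]
        _ = q * (p * q) * p := by group
        _ = q * (q * p * E.z) * p := by
          rw [hanti' q hq2 e1 e2, mul_assoc _ E.z E.z, E.hz2, mul_one]
        _ = (q * q) * p * (E.z * p) := by group
        _ = E.z := by rw [E.zcomm p, ← mul_assoc, mul_assoc _ p p, hp, hq2, E.hz2, one_mul]
  have hga' : g3 * a * g3⁻¹ = a := fixes a _ ha (fun v hv n1 n2 => hanti v (by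
    rcases (hsix v hv).2 with e | e | e | e | e | e
    exacts [absurd e n1, absurd e n2, Or.inl e, Or.inr (Or.inl e), Or.inr (Or.inr (Or.inl e)),
      Or.inr (Or.inr (Or.inr e))])) rfl
  have hgb' : g3 * b * g3⁻¹ = b := fixes b _ hb (fun v hv n1 n2 => by
    have hs : ∀ v : D.H, v * b = b * v * E.z → (v * E.z) * b = b * (v * E.z) * E.z := by
      intro v e; rw [mul_assoc v, E.zcomm b, ← mul_assoc v, e]; simp only [mul_assoc]
    have h1 : a * b = b * a * E.z := by rw [hba, mul_assoc _ E.z E.z, E.hz2, mul_one]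
    have h2 : a * b * b = b * (a * b) * E.z := by
      rw [← mul_assoc b a b, hba, mul_assoc (a * b) E.z b, E.zcomm b, ← mul_assoc,
        mul_assoc _ E.z E.z, E.hz2, mul_one]
    rcases (hsix v hv).2 with e | e | e | e | e | e
    · rw [e]; exact h1
    · rw [e]; exact hs _ h1
    · exact absurd e n1
    · exact absurd e n2
    · rw [e]; exact h2
    · rw [e]; exact hs _ h2) rfl
  have hg3O : g3 ∈ O := (hO g3).mpr ⟨mul_inv_eq_iff_eq_mul.mp hga', mul_inv_eq_iff_eq_mul.mp hgb'⟩
  have hdvd : 3 ∣ Nat.card O := hg3 ▸ Subgroup.orderOf_dvd_natCard O hg3O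
  rcases hcase with e | e <;> rw [e] at hdvd <;> norm_num at hdvd

end Cfsg.Agent.Block.Zas.IndexTwo
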