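import Mathlib

/-!
# A central element of order four and a single involution

In a finite group with exactly one involution and a central element of order four, a Sylow
2-subgroup is cyclic: some element has the full 2-part of the group order as its order.
-/

set_option autoImplicit false

namespace Cfsg.Agent.Block.Zas.IndexTwo

variable {H : Type*} [Group H] [Finite H]

/-- Some element has as order the largest power of two dividing the group order. -/
theorem exists_full_two_power {z w : H} (hz : z ≠ 1) (hz2 : z * z = 1)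
    (huniq : ∀ x : H, x * x = 1 → x = 1 ∨ x = z)
    (hw : w * w = z) (hwc : ∀ x : H, x * w = w * x) :
    ∃ (x : H) (m : ℕ), Even (orderOf x) ∧ Odd m ∧ orderOf x * m = Nat.card H := by
  classical
  haveI := Fact.mk Nat.prime_two
  haveI := Fintype.ofFinite H
  have hword : orderOf w = 4 := by
    refine orderOf_eq_prime_pow (p := 2) (n := 1) ?_ ?_
    · rw [pow_one, sq, hw]; exact hz
    · rw [show (2 : ℕ) ^ (1 + 1) = 2 + 2 from rfl, pow_add, sq, hw, hz2]
  -- an element of maximal two-power order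
  let S := Finset.univ.filter fun x : H => ∃ j, orderOf x = 2 ^ j
  obtain ⟨x, hxS, hmax⟩ := S.exists_max_image (fun x => orderOf x)
    ⟨w, Finset.mem_filter.mpr ⟨Finset.mem_univ _, 2, hword⟩⟩
  obtain ⟨j, hj⟩ := (Finset.mem_filter.mp hxS).2
  have hj2 : 2 ≤ j := by
    have := hmax w (Finset.mem_filter.mpr ⟨Finset.mem_univ _, 2, hword⟩)
    rw [hword, hj] at this
    exact (Nat.pow_le_pow_iff_right (by omega : 1 < 2)).mp (this : 2 ^ 2 ≤ 2 ^ j)
  obtain ⟨m, hm⟩ := orderOf_dvd_natCard x
  refine ⟨x, m, by rw [hj]; exact (Nat.even_pow).mpr ⟨even_two, by omega⟩, ?_, hm.symm⟩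
  rw [← Nat.not_even_iff_odd]
  rintro ⟨m', rfl⟩
  have hdvd : 2 ^ (j + 1) ∣ Nat.card H := ⟨m', by rw [hm, hj, pow_succ]; ring⟩
  obtain ⟨K, hK, hle⟩ := Sylow.exists_subgroup_card_pow_succ hdvd
    (H := Subgroup.zpowers x) (by rw [Nat.card_zpowers, hj])
  have hidx : ((Subgroup.zpowers x).subgroupOf K).index = 2 := by
    have h1 := ((Subgroup.zpowers x).subgroupOf K).card_mul_index
    rw [Nat.card_congr (Subgroup.subgroupOfEquivOfLe hle).toEquiv, Nat.card_zpowers, hj, hK,
      pow_succ] at h1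
    exact Nat.eq_of_mul_eq_mul_left (by positivity) h1
  obtain ⟨y, hyK, hy⟩ := SetLike.exists_of_lt
    (show Subgroup.zpowers x < K from lt_of_le_of_ne hle fun e => by
      have : Nat.card (Subgroup.zpowers x) = Nat.card K := by rw [e]
      rw [Nat.card_zpowers, hj, hK] at this
      have := Nat.pow_right_injective le_rfl this
      omega)
  obtain ⟨e, he⟩ : ∃ e : ℤ, x ^ e = y * y := Subgroup.mem_zpowers_iff.mp (by
    have := Subgroup.sq_mem_of_index_two hidx ⟨y, hyK⟩
    rw [sq] at this
    exact this)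
  obtain ⟨r, hr⟩ : ∃ r : ℤ, x ^ r = y * x * y⁻¹ := Subgroup.mem_zpowers_iff.mp (by
    haveI := Subgroup.normal_of_index_eq_two hidx
    let xK : K := ⟨x, hle (Subgroup.mem_zpowers x)⟩
    have hxK : xK ∈ (Subgroup.zpowers x).subgroupOf K := Subgroup.mem_zpowers x
    exact Subgroup.Normal.conj_mem inferInstance xK hxK (⟨y, hyK⟩ : K))
  have hord : ∀ i : ℤ, x ^ i = 1 ↔ (2 : ℤ) ^ j ∣ i := by
    intro i
    rw [← orderOf_dvd_iff_zpow_eq_one, hj]
    push_cast
    rfl
  -- the quarter power of `x` is central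
  set c : ℕ := 2 ^ (j - 2) with hc
  have hc4 : 4 * c = 2 ^ j := by
    rw [hc, show (4 : ℕ) = 2 ^ 2 from rfl, ← pow_add]; congr 1; omega
  have hxc2 : x ^ (2 * c) = z := by
    rcases huniq (x ^ (2 * c)) (by rw [← pow_add, show 2 * c + 2 * c = orderOf x by omega,
      pow_orderOf_eq_one]) with h | h
    · have := Nat.le_of_dvd (by positivity) (orderOf_dvd_of_pow_eq_one h)
      have : 0 < c := by positivity
      omega
    · exact h
  have hcent : x ^ c * y = y * x ^ c := by
    have hxw : Commute (x ^ c) w := hwc _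
    have hww : w⁻¹ * w⁻¹ = z := by rw [← mul_inv_rev, hw, inv_eq_of_mul_eq_one_right hz2]
    rcases huniq (x ^ c * w⁻¹) (by
      rw [(hxw.inv_right).symm.mul_mul_mul_comm, ← pow_add, ← two_mul, hxc2, hww, hz2]) with h | h
    · rw [mul_inv_eq_one.mp h, hwc]
    · have e : x ^ c = w * w * w := by rw [hw, ← h, inv_mul_cancel_right]
      have hcw : Commute y w := hwc y
      rw [e]
      exact ((hcw.mul_right hcw).mul_right hcw).eq.symm
  have hr4 : (4 : ℤ) ∣ r - 1 := by
    have h1 : x ^ ((c : ℤ) * (r - 1)) = 1 := by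
      rw [mul_sub, zpow_sub, mul_one, mul_comm (c : ℤ) r, zpow_mul, hr, zpow_natCast, conj_pow,
        ← hcent, mul_inv_cancel_right, zpow_natCast, mul_inv_cancel]
    rw [hord, show (2 : ℤ) ^ j = (c : ℤ) * 4 by rw [mul_comm]; exact_mod_cast hc4.symm] at h1
    exact Int.dvd_of_mul_dvd_mul_left (by exact_mod_cast (show c ≠ 0 by positivity)) h1
  -- the square of `y` is an even power
  have he2 : (2 : ℤ) ∣ e := by
    by_contra h
    have hy2 : orderOf (y * y) = 2 ^ j := by
      have hco : IsCoprime e ((2 : ℤ) ^ j) :=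
        ((Int.prime_two.coprime_iff_not_dvd.mpr h).symm).pow_right
      refine Nat.dvd_antisymm ?_ ?_
      · rw [orderOf_dvd_iff_pow_eq_one, ← he, ← zpow_natCast, ← zpow_mul, hord]
        exact dvd_mul_of_dvd_right (by push_cast; rfl) _
      · obtain ⟨a, b, hab⟩ := hco
        have hx' : x = (y * y) ^ a := by
          rw [← he, ← zpow_mul]
          conv_lhs => rw [← zpow_one x, ← hab]
          rw [zpow_add, mul_comm a e, (hord (b * 2 ^ j)).mpr (Dvd.intro_left _ rfl), mul_one]
        rw [← hj, hx']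
        exact orderOf_dvd_of_mem_zpowers (Subgroup.zpow_mem_zpowers _ _)
    obtain ⟨i, -, hi⟩ := (Nat.dvd_prime_pow Nat.prime_two).mp
      ((hK ▸ Subgroup.orderOf_dvd_natCard K hyK : orderOf y ∣ 2 ^ (j + 1)))
    have hle' := hmax y (Finset.mem_filter.mpr ⟨Finset.mem_univ _, i, hi⟩)
    simp only [hi, hj] at hle'
    have hij : i ≤ j := (Nat.pow_le_pow_iff_right (by omega : 1 < 2)).mp hle'
    have h3 : orderOf (y * y) ∣ 2 ^ (j - 1) := by
      rw [orderOf_dvd_iff_pow_eq_one, ← sq, ← pow_mul, ← pow_succ', ← orderOf_dvd_iff_pow_eq_one, hi]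
      exact Nat.pow_dvd_pow 2 (by omega)
    rw [hy2] at h3
    have := (Nat.pow_dvd_pow_iff_le_right (by omega : 1 < 2)).mp h3
    omega
  -- shift `y` to an involution
  obtain ⟨e', rfl⟩ := he2
  obtain ⟨r', hr'⟩ := hr4
  have hco : IsCoprime (2 * r' + 1 : ℤ) ((2 : ℤ) ^ j) := by
    refine IsCoprime.pow_right ((Int.prime_two.coprime_iff_not_dvd.mpr ?_).symm)
    omega
  obtain ⟨a, b, hab⟩ := hco
  set i : ℤ := -(e' * a) with hi
  have hsq : (y * x ^ i) * (y * x ^ i) = 1 := by
    have h1 : y * x ^ i = x ^ (r * i) * y := by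
      rw [zpow_mul, hr, conj_zpow, inv_mul_cancel_right]
    calc (y * x ^ i) * (y * x ^ i) = x ^ (r * i) * y * (y * x ^ i) := by
          nth_rewrite 1 [h1]; rfl
      _ = x ^ (r * i + 2 * e' + i) := by
          rw [zpow_add, zpow_add, he]; group
      _ = 1 := by
          rw [hord]
          refine ⟨2 * e' * b, ?_⟩
          rw [hi, show r = 4 * r' + 1 by omega]
          linear_combination (-2 * e') * hab
  have hmem : y * x ^ i ∈ Subgroup.zpowers x := by
    rcases huniq _ hsq with h | h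
    · rw [h]; exact one_mem _
    · rw [h, ← hxc2]; exact Subgroup.npow_mem_zpowers _ _
  exact hy (by
    have := mul_mem hmem (inv_mem (Subgroup.zpow_mem_zpowers x i))
    rwa [mul_inv_cancel_right] at this)

end Cfsg.Agent.Block.Zas.IndexTwo
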