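import Cfsg.Agent.Lib.Block.Zas.IndexTwo.Cyclic

/-!
# A quaternion normal subgroup

A finite group with a single involution `z`, an automorphism of order two fixing only `1` and `z`, such
that every element of order four commutes modulo `z` with some `w` moved to `w z` by the automorphism.
If there is no homomorphism onto `{±1}` then there is a normal quaternion subgroup, and the group is an
extension of its abelian centralizer by a group of order 12.
-/

set_option autoImplicit false

namespace Cfsg.Agent.Block.Zas.IndexTwo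

variable {H : Type*} [Group H]

/-- Commuting modulo `z`. -/
def Rel (z x y : H) : Prop := x * y = y * x ∨ x * y = y * x * z

/-- The data of a group with one involution and an almost fixed-point-free involutory automorphism. -/
structure Data (H : Type*) [Group H] where
  z : H
  σ : H ≃* H
  hz : z ≠ 1
  hz2 : z * z = 1
  huniq : ∀ x : H, x * x = 1 → x = 1 ∨ x = z
  hσ2 : ∀ x, σ (σ x) = x
  hfix : ∀ x, σ x = x → x = 1 ∨ x = z

namespace Data

variable (D : Data H)

theorem zcomm (x : H) : D.z * x = x * D.z := by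
  rcases D.huniq (x * D.z * x⁻¹) (by
    calc x * D.z * x⁻¹ * (x * D.z * x⁻¹) = x * (D.z * D.z) * x⁻¹ := by group
      _ = 1 := by rw [D.hz2]; group) with h | h
  · exact absurd (conj_eq_one_iff.mp h) D.hz
  · conv_lhs => rw [← h]
    group

theorem σz : D.σ D.z = D.z := by
  rcases D.huniq (D.σ D.z) (by rw [← map_mul, D.hz2, map_one]) with h | h
  · exact absurd (D.σ.map_eq_one_iff.mp h) D.hz
  · exact h

theorem zinv : D.z⁻¹ = D.z := inv_eq_of_mul_eq_one_right D.hz2

/-- The elements moved by `z` form a coset of `{1, z}`. -/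
theorem fix_coset {k l : H} (hk : D.σ k = k * D.z) (hl : D.σ l = l * D.z) :
    k = l ∨ k = l * D.z := by
  have e : D.σ (l⁻¹ * k) = l⁻¹ * k := by
    rw [map_mul, map_inv, hk, hl, mul_inv_rev, D.zinv, mul_assoc, ← mul_assoc l⁻¹ k D.z,
      ← D.zcomm (l⁻¹ * k), ← mul_assoc, D.hz2, one_mul]
  rcases D.hfix _ e with h | h
  · exact Or.inl (inv_mul_eq_one.mp h).symm
  · exact Or.inr (inv_mul_eq_iff_eq_mul.mp h)

/-- Elements of order four. -/
theorem four_ne {v : H} (hv : v * v = D.z) : v ≠ 1 ∧ v ≠ D.z :=
  ⟨fun e => D.hz (by rw [← hv, e, mul_one]), fun e => D.hz (by rw [← hv, e, D.hz2])⟩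

/-- Two commuting elements of order four agree up to `z`. -/
theorem four_eq_of_comm {v v' : H} (hv : v * v = D.z) (hv' : v' * v' = D.z)
    (hc : v * v' = v' * v) : v = v' ∨ v = v' * D.z := by
  rcases D.huniq (v'⁻¹ * v) (by
    have hc' : Commute v v' := hc
    rw [(hc'.inv_right).mul_mul_mul_comm, hv, ← mul_inv_rev, hv', D.zinv, D.hz2]) with h | h
  · exact Or.inl (inv_mul_eq_one.mp h).symm
  · exact Or.inr (inv_mul_eq_iff_eq_mul.mp h)

theorem four_inv {v : H} (hv : v * v = D.z) : v⁻¹ = v * D.z :=
  inv_eq_of_mul_eq_one_right (by rw [← mul_assoc, hv, D.hz2])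

theorem anticomm_of_rel {v v' : H} (hv : v * v = D.z) (hv' : v' * v' = D.z) (hr : Rel D.z v v')
    (h1 : v ≠ v') (h2 : v ≠ v' * D.z) : v * v' = v' * v * D.z :=
  hr.resolve_left fun h => (D.four_eq_of_comm hv hv' h).elim h1 h2

theorem mul_z_four {v : H} (hv : v * v = D.z) : (v * D.z) * (v * D.z) = D.z := by
  rw [mul_assoc, ← mul_assoc D.z v, D.zcomm v, mul_assoc v D.z, D.hz2, mul_one, hv]

theorem conj_four (h : H) {v : H} (hv : v * v = D.z) : (h * v * h⁻¹) * (h * v * h⁻¹) = D.z := by
  calc h * v * h⁻¹ * (h * v * h⁻¹) = h * (v * v) * h⁻¹ := by group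
    _ = D.z := by rw [hv, ← D.zcomm h, mul_inv_cancel_right]

theorem σ_four {v : H} (hv : v * v = D.z) : D.σ v * D.σ v = D.z := by rw [← map_mul, hv, D.σz]

/-- `w` commutes modulo `z` with all elements of order four. -/
theorem rel_all [Finite H] (hkey : ∀ v, v * v = D.z → ∃ w, D.σ w = w * D.z ∧ Rel D.z w v)
    (hex : ∃ v : H, v * v = D.z) :
    ∃ w : H, w * w = D.z ∧ D.σ w = w * D.z ∧ ∀ v, v * v = D.z → Rel D.z w v := by
  obtain ⟨v0, hv0⟩ := hex
  obtain ⟨w, hw, -⟩ := hkey v0 hv0
  refine ⟨w, ?_, hw, fun v hv => ?_⟩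
  · rcases D.hfix (w * w) (by
      rw [map_mul, hw, mul_assoc, ← mul_assoc D.z w, D.zcomm w, mul_assoc w D.z, D.hz2, mul_one]) with h | h
    · rcases D.huniq w h with e | e <;> subst e
      · rw [map_one, one_mul] at hw; exact absurd hw.symm D.hz
      · rw [D.σz, D.hz2] at hw; exact absurd hw D.hz
    · exact h
  · obtain ⟨w', hw', hr⟩ := hkey v hv
    rcases D.fix_coset hw hw' with rfl | rfl
    · exact hr
    · rcases hr with h | h
      · left; rw [mul_assoc, D.zcomm v, ← mul_assoc, h, mul_assoc]
      · right; rw [mul_assoc, D.zcomm v, ← mul_assoc, h, ← mul_assoc v w' D.z]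

variable [Finite H]

/-- The main structural result. -/
theorem quaternion_of_no_sign
    (hkey : ∀ v, v * v = D.z → ∃ w, D.σ w = w * D.z ∧ Rel D.z w v)
    (hex : ∃ v : H, v * v = D.z)
    (hnone : ∀ χ : H →* ℤˣ, χ = 1)
    (hsgn : ∀ (x : H) (m : ℕ), Even (orderOf x) → orderOf x * m = Nat.card H → ¬ Odd m) :
    ∃ (a b : H) (O : Subgroup H), a * a = D.z ∧ b * b = D.z ∧ b * a = a * b * D.z ∧ O.Normal ∧
      (∀ g : H, g ∈ O ↔ g * a = a * g ∧ g * b = b * g) ∧
      (∀ x ∈ O, ∀ y ∈ O, x * y = y * x) ∧ Nat.card H = 12 * Nat.card O ∧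
      ∀ v, v * v = D.z → v ^ 4 = 1 ∧ (v = a ∨ v = a * D.z ∨ v = b ∨ v = b * D.z ∨ v = a * b ∨ v = a * b * D.z) := by
  classical
  haveI := Fintype.ofFinite H
  obtain ⟨w, hw, hσw, hwall⟩ := D.rel_all hkey hex
  -- some conjugate of `w` differs from `w` modulo `z`
  obtain ⟨g, hg1, hg2⟩ : ∃ g : H, g * w * g⁻¹ ≠ w ∧ g * w * g⁻¹ ≠ w * D.z := by
    by_contra hcon
    push Not at hcon
    let χ : H →* ℤˣ :=
      { toFun := fun h => if h * w = w * h then 1 else -1
        map_one' := if_pos (by rw [one_mul, mul_one])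
        map_mul' := fun p q => by
          have hsplit : ∀ h : H, h * w = w * h ∨ h * w = w * h * D.z := by
            intro h
            rcases eq_or_ne (h * w * h⁻¹) w with e | e
            · exact Or.inl (mul_inv_eq_iff_eq_mul.mp e)
            · refine Or.inr ?_
              rw [mul_inv_eq_iff_eq_mul.mp (hcon h e), mul_assoc w D.z h, D.zcomm h, ← mul_assoc]
          have hne : ∀ x : H, x ≠ x * D.z := fun x e => D.hz (mul_left_cancel (e.symm.trans (mul_one x).symm))
          rcases hsplit p with hp | hp <;> rcases hsplit q with hq | hq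
          · have e : p * q * w = w * (p * q) := by rw [mul_assoc, hq, ← mul_assoc, hp, mul_assoc]
            simp [hp, hq, e]
          · have e : p * q * w = w * (p * q) * D.z := by
              rw [mul_assoc, hq, ← mul_assoc, ← mul_assoc, hp, mul_assoc w p q]
            have nq : ¬ q * w = w * q := fun h => hne _ (h.symm.trans hq)
            have ne' : ¬ p * q * w = w * (p * q) := fun h => hne _ (h.symm.trans e)
            simp [hp, nq, ne']
          · have e : p * q * w = w * (p * q) * D.z := by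
              rw [mul_assoc, hq, ← mul_assoc, hp, mul_assoc (w * p) D.z q, D.zcomm q, ← mul_assoc,
                mul_assoc w p q]
            have np : ¬ p * w = w * p := fun h => hne _ (h.symm.trans hp)
            have ne' : ¬ p * q * w = w * (p * q) := fun h => hne _ (h.symm.trans e)
            simp [hq, np, ne']
          · have e : p * q * w = w * (p * q) := by
              rw [mul_assoc, hq, ← mul_assoc, ← mul_assoc, hp, mul_assoc (w * p) D.z q, D.zcomm q,
                ← mul_assoc, mul_assoc _ D.z D.z, D.hz2, mul_one, mul_assoc]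
            have nq : ¬ q * w = w * q := fun h => hne _ (h.symm.trans hq)
            have np : ¬ p * w = w * p := fun h => hne _ (h.symm.trans hp)
            simp [np, nq, e] }
    have hc : ∀ h, h * w = w * h := fun h => by
      have e : (if h * w = w * h then (1 : ℤˣ) else -1) = 1 := DFunLike.congr_fun (hnone χ) h
      by_contra hh
      rw [if_neg hh] at e
      exact absurd e (by decide)
    obtain ⟨x, m, hx, hm, hxm⟩ := exists_full_two_power D.hz D.hz2 D.huniq hw hc
    exact hsgn x m hx hxm hm
  set b := g * w * g⁻¹ with hb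
  have hb2 : b * b = D.z := D.conj_four g hw
  clear_value b
  have hanti : w * b = b * w * D.z :=
    D.anticomm_of_rel hw hb2 (hwall b hb2) (Ne.symm hg1) (fun e => hg2 (by
      rw [e, mul_assoc, D.hz2, mul_one]))
  have hanti' : b * w = w * b * D.z := by rw [hanti, mul_assoc _ D.z D.z, D.hz2, mul_one]
  have hball : ∀ v, v * v = D.z → Rel D.z b v := by
    intro v hv
    have hv' : (g⁻¹ * v * g) * (g⁻¹ * v * g) = D.z := by simpa using D.conj_four g⁻¹ hv
    have e1 : b * v = g * (w * (g⁻¹ * v * g)) * g⁻¹ := by rw [hb]; group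
    rcases hwall _ hv' with h | h
    · left
      rw [e1, h, hb]; group
    · right
      rw [e1, h, hb]
      simp only [← mul_assoc]
      rw [mul_assoc _ D.z g⁻¹, D.zcomm g⁻¹]
      group
  have hwb : (w * b) * (w * b) = D.z := by
    calc (w * b) * (w * b) = w * (b * w) * b := by group
      _ = w * (w * b * D.z) * b := by rw [hanti']
      _ = (w * w) * (b * D.z * b) := by group
      _ = D.z := by rw [mul_assoc b, D.zcomm b, ← mul_assoc b, hb2, hw, D.hz2, mul_one]
  have six : ∀ v, v * v = D.z →
      v = w ∨ v = w * D.z ∨ v = b ∨ v = b * D.z ∨ v = w * b ∨ v = w * b * D.z := by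
    intro v hv
    by_contra hcon
    push Not at hcon
    obtain ⟨h1, h2, h3, h4, h5, h6⟩ := hcon
    have a1 : w * v = v * w * D.z := D.anticomm_of_rel hw hv (hwall v hv) (Ne.symm h1) (fun e => h2 (by
      rw [e, mul_assoc, D.hz2, mul_one]))
    have a2 : b * v = v * b * D.z := D.anticomm_of_rel hb2 hv (hball v hv) (Ne.symm h3) (fun e => h4 (by
      rw [e, mul_assoc, D.hz2, mul_one]))
    have hc : v * (w * b) = (w * b) * v := by
      symm
      rw [mul_assoc, a2, ← mul_assoc, ← mul_assoc, a1, mul_assoc (v * w) D.z b, D.zcomm b, ← mul_assoc,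
        mul_assoc _ D.z D.z, D.hz2, mul_one, mul_assoc]
    rcases D.four_eq_of_comm hv hwb hc with e | e
    · exact h5 e
    · exact h6 e
  let O : Subgroup H := Subgroup.centralizer {w, b}
  have hO : ∀ x : H, x ∈ O ↔ x * w = w * x ∧ x * b = b * x := by
    intro x
    simp only [O, Subgroup.mem_centralizer_iff, Set.mem_insert_iff, Set.mem_singleton_iff,
      forall_eq_or_imp, forall_eq]
    exact ⟨fun h => ⟨h.1.symm, h.2.symm⟩, fun h => ⟨h.1.symm, h.2.symm⟩⟩
  have hOsix : ∀ x ∈ O, ∀ v, v * v = D.z → x * v = v * x := by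
    intro x hx v hv
    have h1 : Commute x w := ((hO x).mp hx).1
    have h2 : Commute x b := ((hO x).mp hx).2
    have h3 : Commute x D.z := (D.zcomm x).symm
    rcases six v hv with rfl | rfl | rfl | rfl | rfl | rfl
    · exact h1
    · exact h1.mul_right h3
    · exact h2
    · exact h2.mul_right h3
    · exact h1.mul_right h2
    · exact (h1.mul_right h2).mul_right h3
  have hOn : O.Normal := ⟨fun x hx h => by
    rw [hO]
    have key : ∀ v, v * v = D.z → (h * x * h⁻¹) * v = v * (h * x * h⁻¹) := by
      intro v hv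
      have hv' : (h⁻¹ * v * h) * (h⁻¹ * v * h) = D.z := by simpa using D.conj_four h⁻¹ hv
      have e := hOsix x hx _ hv'
      calc h * x * h⁻¹ * v = h * (x * (h⁻¹ * v * h)) * h⁻¹ := by group
        _ = h * (h⁻¹ * v * h * x) * h⁻¹ := by rw [e]
        _ = v * (h * x * h⁻¹) := by group
    exact ⟨key w hw, key b hb2⟩⟩
  have hzO : D.z ∈ O := (hO _).mpr ⟨D.zcomm w, D.zcomm b⟩
  have hσO : ∀ x ∈ O, D.σ x ∈ O := by
    intro x hx
    rw [hO]
    have key : ∀ v, v * v = D.z → D.σ x * v = v * D.σ x := by
      intro v hv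
      have e := congrArg D.σ (hOsix x hx _ (D.σ_four hv))
      rwa [map_mul, map_mul, D.hσ2] at e
    exact ⟨key w hw, key b hb2⟩
  have hOfour : ∀ x ∈ O, x * x ≠ D.z := by
    intro x hx hxz
    obtain ⟨hxw, hxb⟩ := (hO x).mp hx
    rcases D.four_eq_of_comm hxz hw hxw with e | e <;>
    rcases D.four_eq_of_comm hxz hb2 hxb with e' | e'
    · exact hg1 (e'.symm.trans e)
    · exact hg2 (by rw [← e, e', mul_assoc, D.hz2, mul_one])
    · exact hg2 (e'.symm.trans e)
    · exact hg1 (mul_right_cancel (e'.symm.trans e))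
  -- the automorphism inverts `O`
  have hinv : ∀ x ∈ O, D.σ x = x⁻¹ := by
    have hnofix : ∀ x ∈ O, D.σ x ≠ x * D.z := by
      intro x hx e
      rcases D.fix_coset e hσw with e' | e'
      · exact hOfour x hx (by rw [e', hw])
      · exact hOfour x hx (by rw [e', D.mul_z_four hw])
    let Q := Quotient.mk (QuotientGroup.leftRel ((Subgroup.zpowers D.z).subgroupOf O))
    let φ : O → O := fun x => ⟨D.σ x * (x : H)⁻¹, O.mul_mem (hσO _ x.2) (O.inv_mem x.2)⟩
    have hz' : ∀ k : H, k ∈ Subgroup.zpowers D.z → k = 1 ∨ k = D.z := by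
      rintro k ⟨i, rfl⟩
      refine D.huniq _ ?_
      show D.z ^ i * D.z ^ i = 1
      rw [← (Commute.refl D.z).mul_zpow, D.hz2, one_zpow]
    have hinj : Function.Injective
        (fun q : Quotient (QuotientGroup.leftRel ((Subgroup.zpowers D.z).subgroupOf O)) =>
          Q (φ (Quotient.out q))) := by
      intro q q' hq
      have h1 := QuotientGroup.leftRel_apply.mp (Quotient.exact hq)
      rw [← Quotient.out_eq q, ← Quotient.out_eq q']
      refine Quotient.sound (QuotientGroup.leftRel_apply.mpr ?_)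
      set x : H := ((Quotient.out q : O) : H)
      set y : H := ((Quotient.out q' : O) : H)
      have hxy : x⁻¹ * y ∈ O := O.mul_mem (O.inv_mem (Quotient.out q).2) (Quotient.out q').2
      show x⁻¹ * y ∈ Subgroup.zpowers D.z
      have h2 : (D.σ x * x⁻¹)⁻¹ * (D.σ y * y⁻¹) ∈ Subgroup.zpowers D.z := h1
      rcases hz' _ h2 with e | e
      · have : D.σ (x⁻¹ * y) = x⁻¹ * y := by
          rw [inv_mul_eq_one, eq_mul_inv_iff_mul_eq] at e
          rw [map_mul, map_inv, ← e]; group
        rcases D.hfix _ this with h | h <;> rw [h]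
        exacts [one_mem _, Subgroup.mem_zpowers _]
      · exfalso
        refine hnofix _ hxy ?_
        rw [inv_mul_eq_iff_eq_mul, mul_inv_eq_iff_eq_mul] at e
        rw [map_mul, map_inv, e, mul_assoc (D.σ x * x⁻¹) D.z y, D.zcomm y]
        group
    intro x hx
    obtain ⟨q, hq⟩ := (Finite.injective_iff_surjective.mp hinj) (Q ⟨x, hx⟩)
    have h1 := QuotientGroup.leftRel_apply.mp (Quotient.exact hq)
    set y : H := ((Quotient.out q : O) : H)
    have h2 : (D.σ y * y⁻¹)⁻¹ * x ∈ Subgroup.zpowers D.z := h1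
    have hflip : D.σ (D.σ y * y⁻¹) = (D.σ y * y⁻¹)⁻¹ := by
      rw [map_mul, map_inv, D.hσ2]; group
    rcases hz' _ h2 with e | e
    · rw [← inv_mul_eq_one.mp e, hflip]
    · rw [inv_mul_eq_iff_eq_mul.mp e, map_mul, hflip, D.σz, mul_inv_rev (D.σ y * y⁻¹) D.z, D.zinv]
      exact (D.zcomm _).symm
  have hOc : ∀ x ∈ O, ∀ y ∈ O, x * y = y * x := by
    intro x hx y hy
    have e := hinv _ (O.mul_mem hx hy)
    rw [map_mul, hinv x hx, hinv y hy, mul_inv_rev] at e
    rw [← inv_inj, mul_inv_rev, mul_inv_rev, e]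
  -- the three pairs
  let T : Fin 3 → H := ![w, b, w * b]
  have hT : ∀ i, T i * T i = D.z := fun i => by fin_cases i <;> simpa [T]
  let cls : H → Fin 3 := fun v =>
    if v = w ∨ v = w * D.z then 0 else if v = b ∨ v = b * D.z then 1 else 2
  have hne_wb : ∀ u : H, u = w ∨ u = w * D.z → ¬ (u = b ∨ u = b * D.z) := by
    rintro u (rfl | rfl) (e | e)
    · exact hg1 e.symm
    · exact hg2 (by rw [e, mul_assoc, D.hz2, mul_one])
    · exact hg2 e.symm
    · exact hg1 (mul_right_cancel e).symm
  have hwb3 : ∀ u : H, u = w * b ∨ u = w * b * D.z →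
      ¬ (u = w ∨ u = w * D.z) ∧ ¬ (u = b ∨ u = b * D.z) := by
    have hb1 := D.four_ne hb2
    have hw1 := D.four_ne hw
    rintro u (rfl | rfl) <;> refine ⟨?_, ?_⟩ <;> rintro (e | e)
    · exact hb1.1 (mul_left_cancel (e.trans (mul_one w).symm))
    · exact hb1.2 (mul_left_cancel e)
    · exact hw1.1 (mul_right_cancel (e.trans (one_mul b).symm))
    · exact hw1.2 (mul_right_cancel (e.trans (D.zcomm b).symm))
    · rw [mul_assoc] at e
      have e' : b * D.z = 1 := mul_left_cancel (e.trans (mul_one w).symm)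
      exact hb1.2 (by rw [mul_eq_one_iff_eq_inv.mp e', D.zinv])
    · exact hb1.1 (mul_left_cancel ((mul_right_cancel e).trans (mul_one w).symm))
    · rw [mul_assoc, ← D.zcomm b, ← mul_assoc] at e
      have e' : w * D.z = 1 := mul_right_cancel (e.trans (one_mul b).symm)
      exact hw1.2 (by rw [mul_eq_one_iff_eq_inv.mp e', D.zinv])
    · exact hw1.1 (mul_right_cancel ((mul_right_cancel e).trans (one_mul b).symm))
  have hcls : ∀ v, v * v = D.z → v = T (cls v) ∨ v = T (cls v) * D.z := by
    intro v hv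
    simp only [cls]
    split_ifs with h1 h2
    · simpa [T] using h1
    · simpa [T] using h2
    · rcases six v hv with e | e | e | e | e | e
      · exact absurd (Or.inl e) h1
      · exact absurd (Or.inr e) h1
      · exact absurd (Or.inl e) h2
      · exact absurd (Or.inr e) h2
      · left; simpa [T] using e
      · right; simpa [T] using e
  have hclsT : ∀ i v, v = T i ∨ v = T i * D.z → cls v = i := by
    intro i v hv
    fin_cases i <;> simp only [T, cls] at hv ⊢
    · exact if_pos (by simpa using hv)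
    · rw [if_neg (fun h => hne_wb v h (by simpa using hv)), if_pos (by simpa using hv)]; rfl
    · obtain ⟨p, q⟩ := hwb3 v (by simpa using hv)
      rw [if_neg p, if_neg q]; rfl
  have hclsz : ∀ v, v * v = D.z → cls (v * D.z) = cls v := fun v hv => hclsT _ _ (by
    rcases hcls v hv with e | e
    · right; rw [← e]
    · left; nth_rewrite 1 [e]; rw [mul_assoc, D.hz2, mul_one])
  let act : H → Fin 3 → Fin 3 := fun h i => cls (h * T i * h⁻¹)
  have hact : ∀ p q i, act (p * q) i = act p (act q i) := by
    intro p q i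
    have hv := D.conj_four q (hT i)
    show cls (p * q * T i * (p * q)⁻¹) = cls (p * T (cls (q * T i * q⁻¹)) * p⁻¹)
    have e : p * q * T i * (p * q)⁻¹ = p * (q * T i * q⁻¹) * p⁻¹ := by group
    rw [e]
    rcases hcls _ hv with h | h
    · nth_rewrite 1 [h]; rfl
    · nth_rewrite 1 [h]
      rw [show p * (T (cls (q * T i * q⁻¹)) * D.z) * p⁻¹ = p * T (cls (q * T i * q⁻¹)) * p⁻¹ * D.z by
        rw [← mul_assoc, mul_assoc _ D.z p⁻¹, D.zcomm p⁻¹, ← mul_assoc]]
      exact hclsz _ (D.conj_four p (hT _))
  have hact1 : ∀ i, act 1 i = i := fun i => hclsT i _ (Or.inl (by group))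
  let π : H →* Equiv.Perm (Fin 3) :=
    { toFun := fun h => ⟨act h, act h⁻¹, fun i => by rw [← hact, inv_mul_cancel, hact1],
        fun i => by rw [← hact, mul_inv_cancel, hact1]⟩
      map_one' := Equiv.ext hact1
      map_mul' := fun p q => Equiv.ext (hact p q) }
  have hker : Nat.card π.ker * 3 = Nat.card H := by
    have h1 : π g ≠ 1 := fun e => by
      have h0 : cls b = 0 := by
        have h' : cls (g * w * g⁻¹) = 0 := DFunLike.congr_fun e 0
        rw [hb]; exact h'
      rw [hclsT 1 b (Or.inl rfl)] at h0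
      exact absurd h0 (by decide)
    have hle : π.range ≤ alternatingGroup (Fin 3) := by
      rintro _ ⟨h, rfl⟩
      rw [Equiv.Perm.mem_alternatingGroup]
      exact DFunLike.congr_fun (hnone (Equiv.Perm.sign.comp π)) h
    have h3 : Nat.card π.range = 3 := by
      have hA : Nat.card (alternatingGroup (Fin 3)) = 3 := by
        rw [nat_card_alternatingGroup, Nat.card_fin]; rfl
      rcases (Nat.dvd_prime Nat.prime_three).mp (hA ▸ Subgroup.card_dvd_of_le hle) with h | h
      · exact absurd (Subgroup.mem_bot.mp (Subgroup.card_eq_one.mp h ▸ (⟨g, rfl⟩ : π g ∈ π.range))) h1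
      · exact h
    have := π.ker.card_mul_index
    rwa [Subgroup.index_ker, h3] at this
  have hkerT : ∀ c : π.ker, ∀ i, (c : H) * T i * (c : H)⁻¹ = T i ∨ (c : H) * T i * (c : H)⁻¹ = T i * D.z := by
    intro c i
    have h0 : cls ((c : H) * T i * (c : H)⁻¹) = i :=
      DFunLike.congr_fun (MonoidHom.mem_ker.mp c.2) i
    have := hcls _ (D.conj_four (c : H) (hT i))
    rwa [h0] at this
  -- every element of the kernel is an element of the quaternion group times one of `O`
  let R : Fin 4 → H := ![1, w, b, w * b]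
  have hRw : ∀ r : Fin 4, R r * w = (if r = 2 ∨ r = 3 then w * R r * D.z else w * R r) := by
    intro r
    fin_cases r <;> simp [R]
    · exact hanti'
    · rw [mul_assoc, hanti']; simp [mul_assoc]
  have hRb : ∀ r : Fin 4, R r * b = (if r = 1 ∨ r = 3 then b * R r * D.z else b * R r) := by
    intro r
    fin_cases r
    · simp [R]
    · simpa [R] using hanti
    · simp [R]
    · show w * b * b = if ((3 : Fin 4) = 1 ∨ (3 : Fin 4) = 3) then b * (w * b) * D.z else b * (w * b)
      rw [if_pos (Or.inr rfl), ← mul_assoc b w b, hanti', mul_assoc (w * b) D.z b, D.zcomm b,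
        ← mul_assoc, mul_assoc _ D.z D.z, D.hz2, mul_one]
  have hRker : ∀ r, R r ∈ π.ker := by
    intro r
    rw [MonoidHom.mem_ker]
    refine Equiv.ext fun i => ?_
    refine hclsT i _ ?_
    have hRel : R r * T i = T i * R r ∨ R r * T i = T i * R r * D.z := by
      have h1 := hRw r
      have h2 := hRb r
      fin_cases i <;> simp only [T]
      · simp only [Fin.zero_eta, Matrix.cons_val_zero]; split_ifs at h1 with h
        exacts [Or.inr h1, Or.inl h1]
      · simp only [Fin.mk_one, Matrix.cons_val_one, Matrix.cons_val_zero]; split_ifs at h2 with h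
        exacts [Or.inr h2, Or.inl h2]
      · simp only [Fin.reduceFinMk, Matrix.cons_val]
        have hzz : ∀ u : H, u * D.z * D.z = u := fun u => by rw [mul_assoc, D.hz2, mul_one]
        split_ifs at h1 h2 with p q q
        · left; rw [← mul_assoc, h1, mul_assoc (w * R r) D.z b, D.zcomm b, ← mul_assoc,
            mul_assoc w (R r) b, h2, ← mul_assoc, ← mul_assoc, hzz]
        · right; rw [← mul_assoc, h1, mul_assoc (w * R r) D.z b, D.zcomm b, ← mul_assoc,
            mul_assoc w (R r) b, h2, ← mul_assoc]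
        · right; rw [← mul_assoc, h1, mul_assoc w (R r) b, h2, ← mul_assoc, ← mul_assoc]
        · left; rw [← mul_assoc, h1, mul_assoc w (R r) b, h2, ← mul_assoc]
    rcases hRel with e | e
    · exact Or.inl (by rw [e, mul_inv_cancel_right])
    · exact Or.inr (by rw [e, mul_assoc (T i * R r) D.z, D.zcomm (R r)⁻¹, ← mul_assoc,
        mul_inv_cancel_right])
  have hOker : ∀ x ∈ O, x ∈ π.ker := by
    intro x hx
    rw [MonoidHom.mem_ker]
    exact Equiv.ext fun i => hclsT i _ (Or.inl (by rw [hOsix x hx _ (hT i), mul_inv_cancel_right]))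
  let mapK : Fin 4 × O → π.ker := fun p => ⟨R p.1 * p.2, π.ker.mul_mem (hRker _) (hOker _ p.2.2)⟩
  have hbij : Function.Bijective mapK := by
    constructor
    · rintro ⟨r, o⟩ ⟨r', o'⟩ h
      have h' : R r * (o : H) = R r' * (o' : H) := congrArg Subtype.val h
      have hmem : (R r')⁻¹ * R r ∈ O := by
        have : (R r')⁻¹ * R r = (o' : H) * (o : H)⁻¹ := by
          rw [inv_mul_eq_iff_eq_mul, ← mul_assoc, ← h', mul_inv_cancel_right]
        rw [this]; exact O.mul_mem o'.2 (O.inv_mem o.2)
      obtain ⟨hcw, hcb⟩ := (hO _).mp hmem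
      have hrr : r = r' := by
        have ez : ∀ u : H, u ≠ u * D.z := fun u e =>
          D.hz (mul_left_cancel (e.symm.trans (mul_one u).symm))
        have key : ∀ (t : H) (p q : Prop) [Decidable p] [Decidable q],
            R r * t = (if p then t * R r * D.z else t * R r) →
            R r' * t = (if q then t * R r' * D.z else t * R r') →
            (R r')⁻¹ * R r * t = t * ((R r')⁻¹ * R r) → (p ↔ q) := by
          intro t p q _ _ hp hq hc
          have e0 : R r * t = R r' * t * (R r')⁻¹ * R r := by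
            rw [mul_assoc, inv_mul_eq_iff_eq_mul] at hc
            rw [hc]; group
          split_ifs at hp hq with a c c
          · exact iff_of_true a c
          · exfalso
            rw [hq, hp, mul_assoc t (R r'), mul_inv_cancel, mul_one] at e0
            exact ez _ e0.symm
          · exfalso
            rw [hq, hp, mul_assoc (t * R r') D.z, D.zcomm (R r')⁻¹, ← mul_assoc,
              mul_inv_cancel_right, mul_assoc t D.z, D.zcomm (R r), ← mul_assoc] at e0
            exact ez _ e0
          · exact iff_of_false a c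
        have k1 := key w _ _ (hRw r) (hRw r') hcw
        have k2 := key b _ _ (hRb r) (hRb r') hcb
        revert k1 k2
        fin_cases r <;> fin_cases r' <;> decide
      subst hrr
      exact Prod.ext rfl (Subtype.ext (mul_left_cancel h'))
    · intro c
      have fac : ∀ t : H, ∀ (e : (c : H) * t * (c : H)⁻¹ = t ∨ (c : H) * t * (c : H)⁻¹ = t * D.z),
          (c : H) * t = t * c ∨ (c : H) * t = t * c * D.z := by
        intro t e
        rcases e with e | e
        · exact Or.inl (mul_inv_eq_iff_eq_mul.mp e)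
        · exact Or.inr (by rw [mul_inv_eq_iff_eq_mul.mp e, mul_assoc t D.z, D.zcomm, ← mul_assoc])
      obtain ⟨r, hr1, hr2⟩ : ∃ r : Fin 4, ((c : H) * w = w * c ↔ ¬ (r = 2 ∨ r = 3)) ∧
          ((c : H) * b = b * c ↔ ¬ (r = 1 ∨ r = 3)) := by
        by_cases h1 : (c : H) * w = w * c <;> by_cases h2 : (c : H) * b = b * c
        · exact ⟨0, by simp [h1], by simp [h2]⟩
        · exact ⟨1, by simp [h1], by simp [h2]⟩
        · exact ⟨2, by simp [h1], by simp [h2]⟩
        · exact ⟨3, by simp [h1], by simp [h2]⟩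
      have hc' : ∀ (t : H) (p : Prop) [Decidable p],
          R r * t = (if p then t * R r * D.z else t * R r) →
          ((c : H) * t * (c : H)⁻¹ = t ∨ (c : H) * t * (c : H)⁻¹ = t * D.z) →
          ((c : H) * t = t * c ↔ ¬ p) →
          ((R r)⁻¹ * c) * t = t * ((R r)⁻¹ * c) := by
        intro t p _ hp he hiff
        rw [mul_assoc, inv_mul_eq_iff_eq_mul, ← mul_assoc, ← mul_assoc]
        split_ifs at hp with h
        · rw [(fac t he).resolve_left (fun e => hiff.mp e h), hp, mul_assoc (t * R r) D.z, D.zcomm (R r)⁻¹,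
            ← mul_assoc, mul_inv_cancel_right, mul_assoc t D.z, D.zcomm (c : H), ← mul_assoc]
        · rw [hiff.mpr h, hp, mul_inv_cancel_right]
      refine ⟨(r, ⟨(R r)⁻¹ * c, (hO _).mpr ⟨hc' w _ (hRw r) (hkerT c 0) hr1,
        hc' b _ (hRb r) (hkerT c 1) hr2⟩⟩), Subtype.ext ?_⟩
      exact mul_inv_cancel_left _ _
  refine ⟨w, b, O, hw, hb2, hanti', hOn, hO, hOc, ?_, fun v hv => ⟨?_, six v hv⟩⟩
  · rw [← hker, ← Nat.card_eq_of_bijective _ hbij, Nat.card_prod, Nat.card_fin]
    ring
  · rw [show 4 = 2 + 2 from rfl, pow_add, sq, hv, D.hz2]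

end Data

end Cfsg.Agent.Block.Zas.IndexTwo
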